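import Groth.Agent.JacDimLib.RectOpen
import Groth.Agent.CatLib.Completion
import Groth.Agent.CMFlatLib.FibreDepth
import Groth.Agent.CMFlatLib.Basic
import Mathlib.RingTheory.Ideal.MinimalPrime.Localization

/-!
# The Cohen–Macaulay locus of a quotient of a regular ring is open
-/

set_option autoImplicit false
set_option maxHeartbeats 1000000

universe u

open IsLocalRing CommAlgDim CatLib

namespace CplExcLib

/-- The Cohen–Macaulay locus of a quotient of a regular ring is open. -/
theorem isOpen_cm_of_surjective (P A : Type u) [CommRing P] [IsRegularRing P] [CommRing A] [Algebra P A]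
    (hs : Function.Surjective (algebraMap P A)) :
    IsOpen {q : PrimeSpectrum A | LocCoh.IsCohenMacaulayLocalRing (Localization.AtPrime q.asIdeal)} := by
  classical
  haveI : IsNoetherianRing A := isNoetherianRing_of_surjective P A _ hs
  haveI : Module.Finite P A := Module.Finite.of_surjective (Algebra.linearMap P A) hs
  let I := RingHom.ker (algebraMap P A)
  rw [isOpen_iff_forall_mem_open]
  intro p hp
  -- the local ring as a quotient of a regular local ring
  have hequiv : ∀ q : PrimeSpectrum A, Nonempty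
      ((Localization.AtPrime (q.asIdeal.comap (algebraMap P A)) ⧸
        I.map (algebraMap P (Localization.AtPrime (q.asIdeal.comap (algebraMap P A))))) ≃+*
          Localization.AtPrime q.asIdeal) := by
    intro q
    let Q := q.asIdeal.comap (algebraMap P A)
    let g := Localization.localRingHom Q q.asIdeal (algebraMap P A) rfl
    have hg : Function.Surjective g := RingHom.surjectiveOnStalks_of_surjective hs q.asIdeal q.2
    have hker : RingHom.ker g = I.map (algebraMap P (Localization.AtPrime Q)) := by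
      refine le_antisymm (fun z hz ↦ ?_) (Ideal.map_le_iff_le_comap.mpr fun x hx ↦ ?_)
      · obtain ⟨⟨b, s⟩, hbs⟩ := IsLocalization.surj Q.primeCompl z
        have h1 : algebraMap A (Localization.AtPrime q.asIdeal) (algebraMap P A b) = 0 := by
          rw [← Localization.localRingHom_to_map Q q.asIdeal (algebraMap P A) rfl, ← hbs, map_mul,
            RingHom.mem_ker.mp hz, zero_mul]
        obtain ⟨⟨t, ht⟩, ht0⟩ := (IsLocalization.map_eq_zero_iff q.asIdeal.primeCompl _ _).mp h1
        obtain ⟨t', rfl⟩ := hs t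
        have hu : IsUnit (algebraMap P (Localization.AtPrime Q) (t' * s)) :=
          IsLocalization.map_units _ (⟨t' * s, Q.primeCompl.mul_mem ht s.2⟩ : Q.primeCompl)
        rw [← Ideal.mul_unit_mem_iff_mem _ hu, map_mul, mul_left_comm, hbs, ← map_mul]
        exact Ideal.mem_map_of_mem _ (RingHom.mem_ker.mpr (by rw [map_mul]; exact ht0))
      · rw [Ideal.mem_comap, RingHom.mem_ker, Localization.localRingHom_to_map, RingHom.mem_ker.mp hx, map_zero]
    exact ⟨(Ideal.quotEquivOfEq hker.symm).trans (RingHom.quotientKerEquivOfSurjective hg)⟩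
  have hreg : ∀ q : PrimeSpectrum A, IsRegularLocalRing (Localization.AtPrime (q.asIdeal.comap (algebraMap P A))) :=
    fun q ↦ IsRegularRing.isRegularLocalRing_localization (R := P) _
  -- minimal primes of `I` inside a given point all have height `h`
  let Qp := p.asIdeal.comap (algebraMap P A)
  let Rp := Localization.AtPrime Qp
  haveI := hreg p
  obtain ⟨ep⟩ := hequiv p
  haveI : Nontrivial (Rp ⧸ I.map (algebraMap P Rp)) := ep.nontrivial
  haveI : IsLocalRing (Rp ⧸ I.map (algebraMap P Rp)) := IsLocalRing.of_surjective' _ Ideal.Quotient.mk_surjective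
  have hpCM : IsCM (Rp ⧸ I.map (algebraMap P Rp)) :=
    isCM_of_ringEquiv ep.symm ((CMFlatLib.isCohenMacaulayLocalRing_iff_isCM _).mp hp)
  obtain ⟨dp, hdp⟩ := CommAlgDim.exists_ringKrullDim_eq (R := Rp)
  haveI : Nontrivial (Rp ⧸ I.map (algebraMap P Rp)) := ep.nontrivial
  haveI : IsLocalRing (Rp ⧸ I.map (algebraMap P Rp)) := IsLocalRing.of_surjective' _ Ideal.Quotient.mk_surjective
  obtain ⟨c, hc⟩ := CommAlgDim.exists_ringKrullDim_eq (R := Rp ⧸ I.map (algebraMap P Rp))
  have hheight : ∀ J ∈ I.minimalPrimes, J ≤ Qp → J.height = ((dp - c : ℕ) : ℕ∞) := by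
    intro J hJ hle
    haveI := hJ.1.1
    have hd : Disjoint (Qp.primeCompl : Set P) (J : Set P) := Set.disjoint_left.mpr fun x hx hx' ↦ hx (hle hx')
    haveI : (J.map (algebraMap P Rp)).IsPrime := IsLocalization.isPrime_of_isPrime_disjoint Qp.primeCompl _ J ‹_› hd
    let J' := J.map (algebraMap P Rp)
    have hJ'c : J'.comap (algebraMap P Rp) = J :=
      IsLocalization.under_map_of_isPrime_disjoint Qp.primeCompl Rp ‹_› hd
    have hmin : J' ∈ (I.map (algebraMap P Rp)).minimalPrimes := by
      rw [IsLocalization.minimalPrimes_map Qp.primeCompl]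
      show J'.comap (algebraMap P Rp) ∈ I.minimalPrimes
      rw [hJ'c]; exact hJ
    have hmin' : J'.map (Ideal.Quotient.mk (I.map (algebraMap P Rp))) ∈ minimalPrimes (Rp ⧸ I.map (algebraMap P Rp)) := by
      rw [minimalPrimes_eq_minimals]
      refine ⟨Ideal.map_isPrime_of_surjective Ideal.Quotient.mk_surjective (by rw [Ideal.mk_ker]; exact hmin.1.2),
        fun K hK hKJ ↦ ?_⟩
      haveI := hK
      have h2 := hmin.2 (y := K.comap (Ideal.Quotient.mk (I.map (algebraMap P Rp))))
        ⟨inferInstance, fun x hx ↦ by rw [Ideal.mem_comap, Ideal.Quotient.eq_zero_iff_mem.mpr hx]; exact zero_mem _⟩ (by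
          refine (Ideal.comap_mono hKJ).trans (le_of_eq ?_)
          rw [Ideal.comap_map_of_surjective _ Ideal.Quotient.mk_surjective, ← RingHom.ker_eq_comap_bot, Ideal.mk_ker]
          exact sup_eq_left.mpr hmin.1.2)
      exact Ideal.map_le_iff_le_comap.mpr h2
    have hdimJ := CatLib.isEquidim_of_isCM hpCM _ hmin'
    rw [hc] at hdimJ
    have hadd := ringKrullDim_quotient_add_height (isCM_of_isRegularLocalRing Rp) J'
    haveI : (J'.map (Ideal.Quotient.mk (I.map (algebraMap P Rp)))).IsPrime := hmin'.1.1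
    rw [← ringKrullDim_eq_of_ringEquiv (R := (Rp ⧸ I.map (algebraMap P Rp)) ⧸ J'.map (Ideal.Quotient.mk _)) (DoubleQuot.quotQuotEquivQuotOfLE hmin.1.2), hdimJ, hdp] at hadd
    have hh : J'.height = J.height := by
      rw [← IsLocalization.height_comap Qp.primeCompl J']
      exact congrArg Ideal.height hJ'c
    rw [hh] at hadd
    obtain ⟨m, hm⟩ := ENat.ne_top_iff_exists.mp (Ideal.height_ne_top (I := J) ‹J.IsPrime›.ne_top)
    rw [← hm] at hadd ⊢
    have : c + m = dp := by exact_mod_cast hadd
    exact_mod_cast (show m = dp - c by omega)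
  let h := dp - c
  -- the neighbourhood
  let S : Set (Ideal P) := {J | J ∈ I.minimalPrimes ∧ ¬ J ≤ Qp}
  have hSfin : S.Finite := (Ideal.finite_minimalPrimes_of_isNoetherianRing P I).subset fun J hJ ↦ hJ.1
  let U₀ : Set (PrimeSpectrum P) := (⋃ J ∈ S, PrimeSpectrum.zeroLocus (J : Set P))ᶜ
  have hU₀ : IsOpen U₀ :=
    (hSfin.isClosed_biUnion fun J _ ↦ PrimeSpectrum.isClosed_zeroLocus _).isOpen_compl
  let U : Set (PrimeSpectrum A) := PrimeSpectrum.comap (algebraMap P A) ⁻¹'
    (U₀ ∩ {Q | PDLTAt P A Q (h + 1)})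
  have hU : IsOpen U := (hU₀.inter (JacDimLib.isOpen_pdltAt A (h + 1))).preimage (PrimeSpectrum.continuous_comap _)
  -- dimension on the neighbourhood
  have hdim : ∀ q : PrimeSpectrum A, PrimeSpectrum.comap (algebraMap P A) q ∈ U₀ → ∃ d m : ℕ,
      ringKrullDim (Localization.AtPrime (q.asIdeal.comap (algebraMap P A))) = d ∧
        ringKrullDim (Localization.AtPrime q.asIdeal) = m ∧ m + h = d := by
    intro q hq
    let Q := q.asIdeal.comap (algebraMap P A)
    let R := Localization.AtPrime Q
    haveI := hreg q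
    obtain ⟨e⟩ := hequiv q
    haveI : Nontrivial (R ⧸ I.map (algebraMap P R)) := e.nontrivial
    obtain ⟨d, hd⟩ := CommAlgDim.exists_ringKrullDim_eq (R := R)
    obtain ⟨m, hm⟩ := CommAlgDim.exists_ringKrullDim_eq (R := Localization.AtPrime q.asIdeal)
    refine ⟨d, m, hd, hm, ?_⟩
    have hRCM := isCM_of_isRegularLocalRing R
    have h2 := (isEquidim_quotient_of_height (isEquidim_of_isCM hRCM) (isCatenary_of_isCM hRCM)
      (I.map (algebraMap P R)) (h := h) fun J' hJ' ↦ by
        haveI := hJ'.1.1
        rw [IsLocalization.minimalPrimes_map Q.primeCompl] at hJ'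
        have hle : J'.comap (algebraMap P R) ≤ Qp := by
          by_contra hn
          refine hq (Set.mem_biUnion (show J'.comap (algebraMap P R) ∈ S from ⟨hJ', hn⟩) ?_)
          show J'.comap (algebraMap P R) ≤ Q
          exact (Ideal.comap_mono (IsLocalRing.le_maximalIdeal (Ideal.IsPrime.ne_top inferInstance))).trans
            (Localization.AtPrime.comap_maximalIdeal).le
        rw [← IsLocalization.height_comap Q.primeCompl J']
        exact hheight _ hJ' hle).2
    rw [ringKrullDim_eq_of_ringEquiv e, hm, hd] at h2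
    exact_mod_cast h2
  have hiff : ∀ q : PrimeSpectrum A, PrimeSpectrum.comap (algebraMap P A) q ∈ U₀ →
      (LocCoh.IsCohenMacaulayLocalRing (Localization.AtPrime q.asIdeal) ↔ q ∈ U) := by
    intro q hq
    obtain ⟨d, m, hd, hm, hmd⟩ := hdim q hq
    haveI := hreg q
    have key := JacDimLib.le_depth_add_iff_pdltAt (P := P) (B := A) (O := Localization.AtPrime q.asIdeal) hs q.asIdeal
      (PrimeSpectrum.comap (algebraMap P A) q) rfl (M := A) (N := Localization.AtPrime q.asIdeal)
      (Algebra.linearMap A (Localization.AtPrime q.asIdeal)) (d := d) hd 0 m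
    rw [show d + 0 + 1 - m = h + 1 by omega, Nat.cast_zero, add_zero] at key
    rw [CMFlatLib.isCohenMacaulayLocalRing_iff_isCM]
    constructor
    · intro hcm
      refine ⟨hq, key.mp ?_⟩
      exact_mod_cast CMFlatLib.le_depth_of_isCM hcm (d := m) hm.ge
    · rintro ⟨-, hpd⟩
      have hdep : (m : ℕ∞) ≤ LocCoh.depth (Localization.AtPrime q.asIdeal) (Localization.AtPrime q.asIdeal) := by
        exact_mod_cast key.mpr hpd
      exact isCM_of_hasSeqIn ((CommAlgDim.le_depth_iff m).mp hdep) hm.le
  have hpU₀ : PrimeSpectrum.comap (algebraMap P A) p ∈ U₀ := by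
    simp only [U₀, Set.mem_compl_iff, Set.mem_iUnion, not_exists]
    exact fun J hJ hJp ↦ hJ.2 hJp
  exact ⟨U, fun q hq ↦ (hiff q hq.1).mpr hq, hU, (hiff p hpU₀).mp hp⟩

end CplExcLib
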