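import Groth.Agent.CplExcLib.J0
import Groth.Agent.NormalLib.CompleteLocal
import Groth.Agent.S2617

/-!
# Complete Noetherian local rings are J-2
-/

set_option autoImplicit false

universe u

open EGA4 IsLocalRing

namespace CplExcLib

theorem isJ2_of_complete (A : Type u) [CommRing A] [IsNoetherianRing A] [IsLocalRing A]
    [IsAdicComplete (maximalIdeal A) A] : EGA4.IsJ2 A := by
  refine (Groth.Agent.S2617.result A).2 fun B _ _ _ hfin ↦ ?_
  haveI := hfin
  let I := RingHom.ker (algebraMap A B)
  haveI : I.IsPrime := RingHom.ker_isPrime _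
  haveI : IsLocalRing (A ⧸ I) := IsLocalRing.of_surjective' (Ideal.Quotient.mk I) Ideal.Quotient.mk_surjective
  haveI := NormalLib.isAdicComplete_quotient_local (R := A) I
  letI : Algebra (A ⧸ I) B := (RingHom.kerLift (algebraMap A B)).toAlgebra
  haveI : IsScalarTower A (A ⧸ I) B := .of_algebraMap_eq fun _ ↦ rfl
  haveI : Module.Finite (A ⧸ I) B := Module.Finite.of_restrictScalars_finite A (A ⧸ I) B
  exact exists_open_regLocus_of_finite_complete (A ⧸ I) B (RingHom.kerLift_injective _)

theorem isOpen_regLocus_of_complete (A : Type u) [CommRing A] [IsNoetherianRing A] [IsLocalRing A]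
    [IsAdicComplete (maximalIdeal A) A] : IsOpen (EGA4.regLocus A) :=
  isJ2_of_complete A A inferInstance

end CplExcLib
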