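import Groth.Agent.CplExcLib.LiftProp
import Groth.Agent.CplExcLib.J2
import Groth.Agent.CplExcLib.CMOpen
import Groth.Agent.GeomRedFibLib.CplFibres
import Groth.Agent.GeomRedFibLib.CplMap
import Groth.Agent.NormalLib.N1
import Groth.Agent.S0580
import Mathlib.RingTheory.Flat.FaithfullyFlat.Algebra
import Mathlib.RingTheory.RingHom.FaithfullyFlat
import Mathlib.RingTheory.LocalProperties.IntegrallyClosed
import Mathlib.RingTheory.Ideal.GoingDown

/-!
# Open loci: normal, regular and Cohen–Macaulay points
-/

set_option autoImplicit false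
set_option maxHeartbeats 800000

universe u

open IsLocalRing EGA4 GeomRedFibLib

namespace CplExcLib

/-- A point with domain local ring has a basic open neighbourhood with domain coordinate ring. -/
theorem exists_away_isDomain (A : Type u) [CommRing A] [IsNoetherianRing A] (p : PrimeSpectrum A)
    (h : IsDomain (Localization.AtPrime p.asIdeal)) : ∃ g ∉ p.asIdeal, IsDomain (Localization.Away g) := by
  classical
  let P := RingHom.ker (algebraMap A (Localization.AtPrime p.asIdeal))
  haveI hPp : P.IsPrime := RingHom.ker_isPrime _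
  obtain ⟨s, hs⟩ := (IsNoetherian.noetherian P)
  have hkill : ∀ x ∈ s, ∃ g ∉ p.asIdeal, g * x = 0 := fun x hx ↦ by
    have hxP : x ∈ P := hs ▸ Submodule.subset_span hx
    obtain ⟨⟨g, hg⟩, hgx⟩ := (IsLocalization.map_eq_zero_iff p.asIdeal.primeCompl _ x).mp hxP
    exact ⟨g, hg, hgx⟩
  choose g hg hgx using hkill
  let G := ∏ x : s, g x.1 x.2
  have hG : G ∉ p.asIdeal := fun hmem ↦ by
    obtain ⟨x, -, hx⟩ := (p.2.prod_mem_iff).mp hmem
    exact hg _ _ hx
  have hPle : P ≤ p.asIdeal := fun x hx ↦ by
    by_contra hn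
    have hu := IsLocalization.map_units (Localization.AtPrime p.asIdeal) (⟨x, hn⟩ : p.asIdeal.primeCompl)
    rw [RingHom.mem_ker.mp hx] at hu
    exact not_isUnit_zero hu
  have hdisj : Disjoint (Submonoid.powers G : Set A) (P : Set A) := Set.disjoint_left.mpr (by
    rintro _ ⟨n, rfl⟩ hn
    exact hG (hPle (hPp.mem_of_pow_mem _ hn)))
  have hbot : P.map (algebraMap A (Localization.Away G)) = ⊥ := by
    rw [eq_bot_iff, Ideal.map_le_iff_le_comap]
    intro x hx
    have hx' : x ∈ Submodule.span A (s : Set A) := hs.symm ▸ hx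
    induction hx' using Submodule.span_induction with
    | mem x hxs =>
      rw [Ideal.mem_comap, Ideal.mem_bot, IsLocalization.map_eq_zero_iff (Submonoid.powers G)]
      refine ⟨⟨G, Submonoid.mem_powers G⟩, ?_⟩
      show G * x = 0
      obtain ⟨c, hc⟩ : g x hxs ∣ G := Finset.dvd_prod_of_mem (fun y : s ↦ g y.1 y.2) (Finset.mem_univ ⟨x, hxs⟩)
      rw [hc, mul_right_comm, hgx, zero_mul]
    | zero => exact Submodule.zero_mem _
    | add a b ha hb iha ihb => exact Submodule.add_mem _ (iha (hs ▸ ha)) (ihb (hs ▸ hb))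
    | smul r a ha iha => exact Ideal.mul_mem_left _ _ (iha (hs ▸ ha))
  haveI : (⊥ : Ideal (Localization.Away G)).IsPrime :=
    hbot ▸ IsLocalization.isPrime_of_isPrime_disjoint (Submonoid.powers G) _ P hPp hdisj
  exact ⟨G, hG, IsDomain.of_bot_isPrime _⟩

/-- The local rings of a basic open. -/
theorem nonempty_away_atPrime (A : Type u) [CommRing A] (g : A) (q : PrimeSpectrum (Localization.Away g)) :
    Nonempty (Localization.AtPrime (PrimeSpectrum.comap (algebraMap A (Localization.Away g)) q).asIdeal ≃+*
      Localization.AtPrime q.asIdeal) := by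
  haveI : IsLocalization.AtPrime (Localization.AtPrime q.asIdeal)
      (PrimeSpectrum.comap (algebraMap A (Localization.Away g)) q).asIdeal :=
    IsLocalization.isLocalization_isLocalization_atPrime_isLocalization (Submonoid.powers g) _ q.asIdeal
  exact ⟨(IsLocalization.algEquiv (PrimeSpectrum.comap (algebraMap A (Localization.Away g)) q).asIdeal.primeCompl _ _).toRingEquiv⟩

theorem mem_norLocus_congr {A B : Type u} [CommRing A] [CommRing B] (p : PrimeSpectrum A) (q : PrimeSpectrum B)
    (e : Localization.AtPrime p.asIdeal ≃+* Localization.AtPrime q.asIdeal) (h : p ∈ norLocus A) : q ∈ norLocus B := by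
  obtain ⟨h1, h2⟩ := h
  haveI := h1
  haveI := h2
  exact ⟨e.symm.toMulEquiv.isDomain _, IsIntegrallyClosed.of_equiv e⟩

/-- Openness of the normal locus from the generic points. -/
theorem isOpen_norLocus_of_generic (A : Type u) [CommRing A] [IsNoetherianRing A]
    (h : ∀ p : PrimeSpectrum A, p.asIdeal ∈ minimalPrimes A → p ∈ norLocus A →
      ∃ U : Set (PrimeSpectrum A), IsOpen U ∧ p ∈ U ∧ U ⊆ norLocus A) : IsOpen (norLocus A) := by
  rw [isOpen_iff_forall_mem_open]
  intro p hp
  obtain ⟨g, hg, hdom⟩ := exists_away_isDomain A p hp.1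
  haveI := hdom
  let Ag := Localization.Away g
  let c := PrimeSpectrum.comap (algebraMap A Ag)
  haveI : IsNoetherianRing Ag := IsLocalization.isNoetherianRing (Submonoid.powers g) _ inferInstance
  have hemb : Topology.IsOpenEmbedding c := PrimeSpectrum.localization_away_isOpenEmbedding Ag g
  have hrange : Set.range c = (PrimeSpectrum.basicOpen g : Set (PrimeSpectrum A)) :=
    PrimeSpectrum.localization_away_comap_range Ag g
  let η : PrimeSpectrum Ag := ⟨⊥, Ideal.isPrime_bot⟩
  obtain ⟨e₀⟩ := nonempty_away_atPrime A g η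
  have hηnor : c η ∈ norLocus A := by
    refine mem_norLocus_congr η (c η) e₀.symm ⟨inferInstance, ?_⟩
    letI : Field (Localization.AtPrime η.asIdeal) := by
      refine IsField.toField ((IsLocalRing.isField_iff_maximalIdeal_eq).2 ?_)
      rw [← Localization.AtPrime.map_eq_maximalIdeal]
      exact Ideal.map_bot
    infer_instance
  have hηmin : (c η).asIdeal ∈ minimalPrimes A := by
    rw [minimalPrimes_eq_minimals]
    refine ⟨(c η).2, fun Q hQ hle ↦ ?_⟩
    have hgQ : g ∉ Q := fun hgQ ↦ by
      have : c η ∈ Set.range c := ⟨η, rfl⟩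
      rw [hrange] at this
      exact this (hle hgQ)
    obtain ⟨q', hq'⟩ : (⟨Q, hQ⟩ : PrimeSpectrum A) ∈ Set.range c := by rw [hrange]; exact hgQ
    have hq : Q = q'.asIdeal.comap (algebraMap A Ag) := congrArg PrimeSpectrum.asIdeal hq'.symm
    rw [hq]
    exact Ideal.comap_mono bot_le
  obtain ⟨U, hU, hηU, hUnor⟩ := h (c η) hηmin hηnor
  obtain ⟨_, ⟨f, rfl⟩, hηf, hfU⟩ :=
    PrimeSpectrum.isTopologicalBasis_basic_opens.exists_subset_of_mem_open hηU hU
  let f' := algebraMap A Ag f
  have hf0 : f' ≠ 0 := fun h0 ↦ hηf (show f' ∈ (⊥ : Ideal Ag) from h0 ▸ zero_mem _)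
  haveI : IsDomain (Localization.Away f') :=
    IsLocalization.isDomain_localization (powers_le_nonZeroDivisors_of_noZeroDivisors hf0)
  haveI : IsIntegrallyClosed (Localization.Away f') := by
    refine IsIntegrallyClosed.of_localization_maximal fun M _ hM ↦ ?_
    haveI := hM
    let q' : PrimeSpectrum (Localization.Away f') := ⟨M, hM.isPrime⟩
    obtain ⟨e₁⟩ := nonempty_away_atPrime Ag f' q'
    obtain ⟨e₂⟩ := nonempty_away_atPrime A g (PrimeSpectrum.comap (algebraMap Ag _) q')
    have hmem : c (PrimeSpectrum.comap (algebraMap Ag _) q') ∈ norLocus A := hUnor (hfU fun hmem ↦ by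
      have : PrimeSpectrum.comap (algebraMap Ag (Localization.Away f')) q' ∈ Set.range (PrimeSpectrum.comap
          (algebraMap Ag (Localization.Away f'))) := ⟨q', rfl⟩
      rw [PrimeSpectrum.localization_away_comap_range (Localization.Away f') f'] at this
      exact this hmem)
    exact (mem_norLocus_congr _ q' (e₂.trans e₁) hmem).2
  have hVo := NormalLib.isOpen_normal_locus Ag f' hf0 inferInstance
  refine ⟨c '' {q | IsIntegrallyClosed (Localization.AtPrime q.asIdeal)}, ?_, hemb.isOpenMap _ hVo, ?_⟩
  · rintro _ ⟨q, hq, rfl⟩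
    obtain ⟨e⟩ := nonempty_away_atPrime A g q
    exact mem_norLocus_congr q (c q) e.symm ⟨IsLocalization.isDomain_localization q.asIdeal.primeCompl_le_nonZeroDivisors, hq⟩
  · obtain ⟨q, hq⟩ : p ∈ Set.range c := by rw [hrange]; exact hg
    obtain ⟨e⟩ := nonempty_away_atPrime A g q
    subst hq
    exact ⟨q, (mem_norLocus_congr (c q) q e hp).2, rfl⟩

/-- An open regular locus gives an open normal locus. -/
theorem isOpen_norLocus_of_isOpen_regLocus (A : Type u) [CommRing A] [IsNoetherianRing A]
    (h : IsOpen (regLocus A)) : IsOpen (norLocus A) := by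
  refine isOpen_norLocus_of_generic A fun p hp hpn ↦ ⟨regLocus A, h, ?_, fun q hq ↦ ?_⟩
  · obtain ⟨h1, -⟩ := hpn
    haveI := h1
    haveI : Ring.KrullDimLE 0 (Localization.AtPrime p.asIdeal) := by
      refine (Order.krullDimLE_iff _ _).mpr (le_of_eq ?_)
      show ringKrullDim (Localization.AtPrime p.asIdeal) = _
      rw [IsLocalization.AtPrime.ringKrullDim_eq_height p.asIdeal (Localization.AtPrime p.asIdeal),
        Ideal.height_eq_zero_iff.mpr hp]
      rfl
    letI := (Ring.KrullDimLE.isField_of_isDomain (R := Localization.AtPrime p.asIdeal)).toField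
    show IsRegularLocalRing (Localization.AtPrime p.asIdeal)
    infer_instance
  · haveI : IsRegularLocalRing (Localization.AtPrime q.asIdeal) := hq
    exact (normal_local_iff _).mpr ⟨fun w _ ↦ isGeomProp_rkLoc 1 |>.regular _
        ((CommAlgDim.isRegularRing_of_isRegularLocalRing _).isRegularLocalRing_localization w),
      fun w _ ↦ (isGeomProp_skLoc 2).regular _
        ((CommAlgDim.isRegularRing_of_isRegularLocalRing _).isRegularLocalRing_localization w)⟩

/-- Descent of an open locus from the completion. -/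
theorem isOpen_of_cpl {P : ∀ (R : Type u) [CommRing R], Prop} (hP : IsGeomProp P) (A : Type u) [CommRing A]
    [IsNoetherianRing A] [IsLocalRing A] (hfib : ∀ (p : Ideal A) [p.IsPrime], RingP P (formalFibre A p))
    (hopen : IsOpen {q : PrimeSpectrum (Cpl A) | RingP P (Localization.AtPrime q.asIdeal)}) :
    IsOpen {p : PrimeSpectrum A | RingP P (Localization.AtPrime p.asIdeal)} := by
  haveI := isNoetherianRing_cpl A
  haveI : Module.FaithfullyFlat A (Cpl A) := faithfullyFlat_hat A
  have hgen : GeneralizingMap (PrimeSpectrum.comap (algebraMap A (Cpl A))) :=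
    Algebra.HasGoingDown.iff_generalizingMap_primeSpectrumComap.mp inferInstance
  have hsurj : Function.Surjective (PrimeSpectrum.comap (algebraMap A (Cpl A))) :=
    PrimeSpectrum.comap_surjective_of_faithfullyFlat
  rw [← (PrimeSpectrum.isQuotientMap_of_generalizingMap hsurj hgen).isOpen_preimage]
  convert hopen using 1
  ext q
  exact ⟨fun h ↦ ringP_asc_at hP.toIsFlatLocalProp A (Cpl A) q.asIdeal h fun w _ _ ↦
      fibLocRing_of_fiber hP A (Cpl A) w (hfib _),
    fun h ↦ ringP_desc_at hP.toIsFlatLocalProp A (Cpl A) q.asIdeal h⟩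

/-- The Cohen–Macaulay locus of a complete Noetherian local ring is open. -/
theorem isOpen_cm_of_complete (A : Type u) [CommRing A] [IsNoetherianRing A] [IsLocalRing A]
    [IsAdicComplete (maximalIdeal A) A] :
    IsOpen {q : PrimeSpectrum A | LocCoh.IsCohenMacaulayLocalRing (Localization.AtPrime q.asIdeal)} := by
  obtain ⟨Λ, _, n, f, hΛ, hf⟩ := Groth.Agent.S0580.result A (IsNoetherian.noetherian _)
  haveI : IsRegularRing Λ := by
    rcases hΛ with hF | hC
    · letI := hF.toField
      infer_instance
    · obtain ⟨_, _, -⟩ := hC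
      infer_instance
  haveI : IsRegularRing (MvPowerSeries (Fin n) Λ) := CommAlgDim.isRegularRing_mvPowerSeries Λ n
  letI := f.toAlgebra
  exact isOpen_cm_of_surjective (MvPowerSeries (Fin n) Λ) A hf

/-- The primes failing `(R_n)` form a closed set when the regular locus is open. -/
theorem isOpen_hasRkAt_of_isOpen_regLocus (A : Type u) [CommRing A] [IsNoetherianRing A]
    (h : IsOpen (regLocus A)) (n : ℕ) : IsOpen {p : PrimeSpectrum A | HasRkAt n A p.asIdeal} := by
  obtain ⟨I, hI⟩ : ∃ I : Ideal A, (regLocus A)ᶜ = PrimeSpectrum.zeroLocus (I : Set A) :=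
    (PrimeSpectrum.isClosed_iff_zeroLocus_ideal _).mp h.isClosed_compl
  let T : Set (Ideal A) := {J | J ∈ I.minimalPrimes ∧ J.height ≤ (n : ℕ∞)}
  have hTfin : T.Finite := (Ideal.finite_minimalPrimes_of_isNoetherianRing A I).subset fun J hJ ↦ hJ.1
  have hset : {p : PrimeSpectrum A | HasRkAt n A p.asIdeal} = (⋃ J ∈ T, PrimeSpectrum.zeroLocus (J : Set A))ᶜ := by
    ext p
    constructor
    · intro hp
      simp only [Set.mem_compl_iff, Set.mem_iUnion, not_exists]
      rintro J ⟨hJI, hJn⟩ hJp
      haveI := hJI.1.1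
      have hreg : (⟨J, inferInstance⟩ : PrimeSpectrum A) ∈ regLocus A := by
        obtain ⟨q, hq, hqJ⟩ : ∃ (q : Ideal (Localization.AtPrime p.asIdeal)) (_ : q.IsPrime),
            q.comap (algebraMap A (Localization.AtPrime p.asIdeal)) = J := by
          have hd : Disjoint (p.asIdeal.primeCompl : Set A) (J : Set A) :=
            Set.disjoint_left.mpr fun x hx hx' ↦ hx (hJp hx')
          exact ⟨J.map _, IsLocalization.isPrime_of_isPrime_disjoint p.asIdeal.primeCompl _ J ‹_› hd,
            IsLocalization.under_map_of_isPrime_disjoint p.asIdeal.primeCompl _ ‹_› hd⟩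
        haveI := hq
        haveI : IsRegularLocalRing (Localization.AtPrime q) := hp q (by
          rw [← IsLocalization.height_comap p.asIdeal.primeCompl q]
          exact (congrArg Ideal.height hqJ).le.trans hJn)
        haveI : IsLocalization.AtPrime (Localization.AtPrime q) J := by
          have h := IsLocalization.isLocalization_isLocalization_atPrime_isLocalization p.asIdeal.primeCompl
            (S := Localization.AtPrime p.asIdeal) (Localization.AtPrime q) q
          simpa only [hqJ] using h
        exact IsRegularLocalRing.of_ringEquiv (R := Localization.AtPrime q)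
          (IsLocalization.algEquiv J.primeCompl (Localization.AtPrime q) (Localization.AtPrime J)).toRingEquiv
      exact (hI.symm ▸ (hJI.1.2 : (⟨J, inferInstance⟩ : PrimeSpectrum A) ∈ PrimeSpectrum.zeroLocus (I : Set A)) :
        (⟨J, inferInstance⟩ : PrimeSpectrum A) ∈ (regLocus A)ᶜ) hreg
    · intro hp q _ hqn
      let q₀ := q.comap (algebraMap A (Localization.AtPrime p.asIdeal))
      haveI : IsLocalization.AtPrime (Localization.AtPrime q) q₀ :=
        IsLocalization.isLocalization_isLocalization_atPrime_isLocalization p.asIdeal.primeCompl _ q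
      suffices hreg : (⟨q₀, inferInstance⟩ : PrimeSpectrum A) ∈ regLocus A by
        haveI : IsRegularLocalRing (Localization.AtPrime q₀) := hreg
        exact IsRegularLocalRing.of_ringEquiv (R := Localization.AtPrime q₀)
          (IsLocalization.algEquiv q₀.primeCompl (Localization.AtPrime q₀) (Localization.AtPrime q)).toRingEquiv
      by_contra hsing
      have hIq : I ≤ q₀ := (show (⟨q₀, inferInstance⟩ : PrimeSpectrum A) ∈ PrimeSpectrum.zeroLocus (I : Set A) from
        hI ▸ hsing)
      obtain ⟨J, hJ, hJq⟩ := Ideal.exists_minimalPrimes_le hIq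
      refine hp (Set.mem_biUnion (show J ∈ T from ⟨hJ, (Ideal.height_mono hJq).trans ?_⟩) ?_)
      · exact (IsLocalization.height_comap p.asIdeal.primeCompl q).le.trans hqn
      · show J ≤ p.asIdeal
        exact hJq.trans ((Ideal.comap_mono (IsLocalRing.le_maximalIdeal (Ideal.IsPrime.ne_top inferInstance))).trans
          (Localization.AtPrime.comap_maximalIdeal).le)
  rw [hset]
  exact (hTfin.isClosed_biUnion fun J _ ↦ PrimeSpectrum.isClosed_zeroLocus _).isOpen_compl

end CplExcLib
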