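import Groth.Agent.GeomRedFibLib.GeomApps
import Groth.Agent.GeomRedFibLib.LocalPropLocal
import Groth.Agent.CMFlatLib.Basic
import Groth.Agent.CatLib.CM
import Groth.Agent.CommAlgDim.Regular
import Groth.Agent.CommAlgDim.GlobalDim
import Groth.Agent.DepthLib.GeomRedOpen

/-!
# Properties lifting from a hypersurface section
-/

set_option autoImplicit false
set_option maxHeartbeats 800000

universe u

open IsLocalRing

namespace CplExcLib

open GeomRedFibLib

/-- The local property "reduced": `(R_0)` and `(S_1)`. -/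
def RedLoc (R : Type u) [CommRing R] : Prop := RkLoc 0 R ∧ SkLoc 1 R

/-- The local property "normal": `(R_1)` and `(S_2)`. -/
def NorLoc (R : Type u) [CommRing R] : Prop := RkLoc 1 R ∧ SkLoc 2 R

/-- A geometric local property which lifts from quotients by non-zero-divisors of the maximal ideal. -/
structure IsLiftProp (P : ∀ (R : Type u) [CommRing R], Prop) : Prop extends IsGeomProp P where
  lift : ∀ (R : Type u) [CommRing R] [IsLocalRing R] [IsNoetherianRing R] (t : R), t ∈ maximalIdeal R →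
    IsSMulRegular R t → RingP P (R ⧸ Ideal.span {t}) → RingP P R

theorem isGeomProp_and {P Q : ∀ (R : Type u) [CommRing R], Prop} (hP : IsGeomProp P) (hQ : IsGeomProp Q) :
    IsGeomProp (fun R [CommRing R] ↦ P R ∧ Q R) where
  congr R S _ _ e h := ⟨hP.congr R S e h.1, hQ.congr R S e h.2⟩
  asc A B _ _ _ _ _ _ _ _ _ hA hF := ⟨hP.asc A B hA.1 hF.1, hQ.asc A B hA.2 hF.2⟩
  desc A B _ _ _ _ _ _ _ _ _ h0 hB := ⟨hP.desc A B h0 hB.1, hQ.desc A B h0 hB.2⟩
  regular R _ h := ⟨hP.regular R h, hQ.regular R h⟩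

theorem ringP_redLoc_iff (R : Type u) [CommRing R] [IsNoetherianRing R] : RingP RedLoc R ↔ _root_.IsReduced R := by
  rw [DepthLib.reduced_iff_r0_s1, hasRk_iff, hasSk_iff]
  exact ⟨fun h ↦ ⟨fun q _ ↦ (h q).1, fun q _ ↦ (h q).2⟩, fun h q _ ↦ ⟨h.1 q, h.2 q⟩⟩

theorem ringP_norLoc_iff (R : Type u) [CommRing R] [IsNoetherianRing R] :
    RingP NorLoc R ↔ EGA4.IsNormalRing R := by
  rw [isNormalRing_iff]
  exact ⟨fun h ↦ ⟨fun q _ ↦ (h q).1, fun q _ ↦ (h q).2⟩, fun h q _ ↦ ⟨h.1 q, h.2 q⟩⟩

theorem ringP_norLoc_local_iff (R : Type u) [CommRing R] [IsLocalRing R] [IsNoetherianRing R] :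
    RingP NorLoc R ↔ (IsDomain R ∧ IsIntegrallyClosed R) := by
  rw [normal_local_iff]
  exact ⟨fun h ↦ ⟨fun q _ ↦ (h q).1, fun q _ ↦ (h q).2⟩, fun h q _ ↦ ⟨h.1 q, h.2 q⟩⟩

/-- Factor out the largest power of `t`. -/
theorem exists_eq_pow_mul {R : Type u} [CommRing R] [IsLocalRing R] [IsNoetherianRing R] {t : R}
    (ht : t ∈ maximalIdeal R) {r : R} (hr : r ≠ 0) : ∃ (n : ℕ) (r₀ : R), r = t ^ n * r₀ ∧ ¬ t ∣ r₀ := by
  classical
  have hex : ∃ n, ¬ t ^ (n + 1) ∣ r := by
    by_contra hcon
    push Not at hcon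
    have h : r ∈ ⨅ n : ℕ, maximalIdeal R ^ n := by
      refine Submodule.mem_iInf _ |>.mpr fun n ↦ ?_
      obtain ⟨c, hc⟩ := (pow_dvd_pow t (Nat.le_succ n)).trans (hcon n)
      rw [hc]
      exact Ideal.mul_mem_right _ _ (Ideal.pow_mem_pow ht n)
    rw [Ideal.iInf_pow_eq_bot_of_isLocalRing _ (maximalIdeal.isMaximal R).ne_top] at h
    exact hr h
  obtain ⟨r₀, hr₀⟩ : t ^ Nat.find hex ∣ r := by
    rcases Nat.eq_zero_or_pos (Nat.find hex) with h | h
    · rw [h, pow_zero]; exact one_dvd r
    · have := Nat.find_min hex (show Nat.find hex - 1 < Nat.find hex by omega)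
      rw [not_not] at this
      rwa [show Nat.find hex - 1 + 1 = Nat.find hex by omega] at this
  refine ⟨_, r₀, hr₀, fun ⟨c, hc⟩ ↦ Nat.find_spec hex ⟨c, ?_⟩⟩
  rw [pow_succ, mul_assoc, ← hc, ← hr₀]

/-- Lifting normality from a quotient by a non-zero-divisor. -/
theorem normal_of_quotient {R : Type u} [CommRing R] [IsLocalRing R] [IsNoetherianRing R] {t : R}
    (ht : t ∈ maximalIdeal R) (hreg : IsSMulRegular R t) [IsDomain (R ⧸ Ideal.span {t})]
    [IsIntegrallyClosed (R ⧸ Ideal.span {t})] : IsDomain R ∧ IsIntegrallyClosed R := by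
  let π := Ideal.Quotient.mk (Ideal.span {t})
  have hπ : ∀ x, π x = 0 ↔ t ∣ x := fun x ↦ by
    rw [Ideal.Quotient.eq_zero_iff_mem, Ideal.mem_span_singleton]
  have hcancel : ∀ (n : ℕ) {x y : R}, t ^ n * x = t ^ n * y → x = y := fun n x y h ↦
    (hreg.pow n) (by simpa using h)
  haveI : NoZeroDivisors R := ⟨fun {a b} hab ↦ by
    by_contra hcon
    rw [not_or] at hcon
    obtain ⟨m, a₀, rfl, ha⟩ := exists_eq_pow_mul ht hcon.1
    obtain ⟨n, b₀, rfl, hb⟩ := exists_eq_pow_mul ht hcon.2
    have h0 : a₀ * b₀ = 0 := hcancel (m + n) (by rw [mul_zero, ← hab, pow_add]; ring)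
    rcases mul_eq_zero.mp (show π a₀ * π b₀ = 0 by rw [← map_mul, h0, map_zero]) with h | h
    · exact ha ((hπ _).mp h)
    · exact hb ((hπ _).mp h)⟩
  haveI : IsDomain R := NoZeroDivisors.to_isDomain R
  refine ⟨inferInstance, (isIntegrallyClosed_iff (FractionRing R)).mpr fun {x} hx ↦ ?_⟩
  obtain ⟨b, a, ha, rfl⟩ := IsFractionRing.div_surjective R x
  have ha0 : a ≠ 0 := nonZeroDivisors.ne_zero ha
  have hinj := IsFractionRing.injective R (FractionRing R)
  have haK : algebraMap R (FractionRing R) a ≠ 0 := (map_ne_zero_iff _ hinj).mpr ha0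
  -- almost integrality
  obtain ⟨e, he0, he⟩ : ∃ e : R, e ≠ 0 ∧ ∀ m : ℕ, a ^ m ∣ e * b ^ m := by
    obtain ⟨s, hs⟩ := (IsIntegral.fg_adjoin_singleton hx)
    obtain ⟨⟨e, he⟩, hes⟩ := IsLocalization.exist_integer_multiples (nonZeroDivisors R) s id
    refine ⟨e, nonZeroDivisors.ne_zero he, fun m ↦ ?_⟩
    have hm : (algebraMap R (FractionRing R) b / algebraMap R _ a) ^ m ∈ Submodule.span R (s : Set (FractionRing R)) := by
      rw [hs]; exact pow_mem (Algebra.subset_adjoin (Set.mem_singleton _)) m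
    have : IsLocalization.IsInteger R (e • (algebraMap R (FractionRing R) b / algebraMap R _ a) ^ m) := by
      generalize (algebraMap R (FractionRing R) b / algebraMap R _ a) ^ m = y at hm
      induction hm using Submodule.span_induction with
      | mem y hy => exact hes y hy
      | zero => rw [smul_zero]; exact IsLocalization.isInteger_zero
      | add y z _ _ hy hz => rw [smul_add]; exact IsLocalization.isInteger_add hy hz
      | smul r y _ hy => rw [smul_comm]; exact IsLocalization.isInteger_smul hy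
    obtain ⟨w, hw⟩ := this
    refine ⟨w, hinj ?_⟩
    rw [map_mul, map_mul, map_pow, map_pow, hw, Algebra.smul_def, div_pow]
    field_simp
  -- successive approximation
  have key : ∀ n : ℕ, ∃ c d : R, b = a * c + t ^ n * d := by
    intro n
    induction n with
    | zero => exact ⟨0, b, by ring⟩
    | succ n ih =>
      obtain ⟨c, d, hbd⟩ := ih
      by_cases htd : t ∣ d
      · obtain ⟨d', rfl⟩ := htd
        exact ⟨c, d', by rw [hbd]; ring⟩
      obtain ⟨k, a₀, hak, ha₀⟩ := exists_eq_pow_mul ht ha0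
      obtain ⟨j, e₀, hej, he₀⟩ := exists_eq_pow_mul ht he0
      have hd : ∀ m : ℕ, a ^ m ∣ e * (t ^ n * d) ^ m := fun m ↦ by
        rw [show t ^ n * d = b + -(a * c) by rw [hbd]; ring, add_pow, Finset.mul_sum]
        refine Finset.dvd_sum fun i hi ↦ ?_
        have hi' : i ≤ m := Nat.lt_succ_iff.mp (Finset.mem_range.mp hi)
        obtain ⟨w, hw⟩ := he i
        refine ⟨w * (-c) ^ (m - i) * (m.choose i : R), ?_⟩
        calc e * (b ^ i * (-(a * c)) ^ (m - i) * (m.choose i : R))
            = (e * b ^ i) * a ^ (m - i) * ((-c) ^ (m - i) * (m.choose i : R)) := by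
              rw [show -(a * c) = a * -c by ring, mul_pow]; ring
          _ = a ^ (i + (m - i)) * (w * ((-c) ^ (m - i) * (m.choose i : R))) := by rw [hw, pow_add]; ring
          _ = a ^ m * (w * (-c) ^ (m - i) * (m.choose i : R)) := by rw [Nat.add_sub_cancel' hi']; ring
      have hnd : ∀ m, π e₀ * π d ^ m ≠ 0 := fun m ↦
        mul_ne_zero (fun h ↦ he₀ ((hπ _).mp h)) (pow_ne_zero _ fun h ↦ htd ((hπ _).mp h))
      have hord : ∀ m, k * m ≤ j + n * m ∧ π a₀ ^ m ∣ π e₀ * π d ^ m := by
        intro m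
        obtain ⟨z, hz⟩ := hd m
        have hz0 : z ≠ 0 := fun h ↦ hnd m (by
          have h0 : e₀ * d ^ m = 0 := hcancel (j + n * m) (by
            rw [mul_zero, ← show e * (t ^ n * d) ^ m = 0 by rw [hz, h, mul_zero], hej, mul_pow, ← pow_mul, pow_add]
            ring)
          rw [← map_pow, ← map_mul, h0, map_zero])
        obtain ⟨l, z₀, hzl, hz₀⟩ := exists_eq_pow_mul ht hz0
        have hmain : t ^ (j + n * m) * (e₀ * d ^ m) = t ^ (k * m + l) * (a₀ ^ m * z₀) := by
          calc t ^ (j + n * m) * (e₀ * d ^ m) = e * (t ^ n * d) ^ m := by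
                rw [hej, mul_pow, ← pow_mul, pow_add]; ring
            _ = a ^ m * z := hz
            _ = t ^ (k * m + l) * (a₀ ^ m * z₀) := by rw [hak, hzl, mul_pow, ← pow_mul, pow_add]; ring
        have hright : π (a₀ ^ m * z₀) ≠ 0 := by
          rw [map_mul, map_pow]
          exact mul_ne_zero (pow_ne_zero _ fun h ↦ ha₀ ((hπ _).mp h)) fun h ↦ hz₀ ((hπ _).mp h)
        rcases lt_trichotomy (j + n * m) (k * m + l) with h | h | h
        · obtain ⟨i, hi⟩ := Nat.exists_eq_add_of_lt h
          rw [hi, add_assoc (j + n * m), pow_add t (j + n * m) (i + 1), mul_assoc] at hmain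
          have h1 := congrArg π (hcancel _ hmain)
          rw [map_mul, map_pow, map_mul, map_pow π t, (hπ t).mpr dvd_rfl, zero_pow (Nat.succ_ne_zero i), zero_mul] at h1
          exact absurd h1 (hnd m)
        · refine ⟨by omega, ?_⟩
          rw [h] at hmain
          exact ⟨π z₀, by rw [← map_pow, ← map_pow, ← map_mul, ← map_mul, hcancel _ hmain]⟩
        · obtain ⟨i, hi⟩ := Nat.exists_eq_add_of_lt h
          rw [hi, add_assoc (k * m + l), pow_add t (k * m + l) (i + 1), mul_assoc] at hmain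
          have h1 := congrArg π (hcancel _ hmain)
          rw [map_mul, map_pow π t, (hπ t).mpr dvd_rfl, zero_pow (Nat.succ_ne_zero i), zero_mul] at h1
          exact absurd h1.symm hright
      have hkn : k ≤ n := by
        by_contra hlt
        have h := (hord (j + 1)).1
        nlinarith
      -- complete integral closedness of the quotient
      let S := R ⧸ Ideal.span {t}
      let L := FractionRing S
      have haL : algebraMap S L (π a₀) ≠ 0 :=
        (map_ne_zero_iff _ (IsFractionRing.injective S L)).mpr fun h ↦ ha₀ ((hπ _).mp h)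
      have heL : algebraMap S L (π e₀) ≠ 0 :=
        (map_ne_zero_iff _ (IsFractionRing.injective S L)).mpr fun h ↦ he₀ ((hπ _).mp h)
      let y := algebraMap S L (π d) / algebraMap S L (π a₀)
      have hy : IsIntegral S y := by
        refine IsIntegral.of_mem_of_fg (Algebra.adjoin S {y}) ?_ y (Algebra.subset_adjoin (Set.mem_singleton y))
        have hle : Subalgebra.toSubmodule (Algebra.adjoin S {y}) ≤
            Submodule.span S {(algebraMap S L (π e₀))⁻¹} := by
          rw [Algebra.adjoin_eq_span, Submodule.span_le]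
          intro z hz
          obtain ⟨m, rfl⟩ := Submonoid.mem_closure_singleton.mp hz
          obtain ⟨w, hw⟩ := (hord m).2
          refine Submodule.mem_span_singleton.mpr ⟨w, ?_⟩
          rw [Algebra.smul_def, div_pow, eq_div_iff (pow_ne_zero _ haL)]
          have h1 := congrArg (algebraMap S L) hw
          rw [map_mul, map_pow, map_mul, map_pow] at h1
          rw [mul_right_comm, mul_inv_eq_iff_eq_mul₀ heL]
          linear_combination -h1
        haveI : IsNoetherian S (Submodule.span S {(algebraMap S L (π e₀))⁻¹}) :=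
          isNoetherian_span_of_finite S (Set.finite_singleton _)
        exact Module.Finite.iff_fg.mp (Module.Finite.of_injective (Submodule.inclusion hle) (Submodule.inclusion_injective hle))
      obtain ⟨c₀, hc₀⟩ := IsIntegrallyClosed.isIntegral_iff.mp hy
      obtain ⟨c₀, rfl⟩ := Ideal.Quotient.mk_surjective c₀
      have hdc : π d = π (a₀ * c₀) := by
        refine IsFractionRing.injective S L ?_
        rw [map_mul, map_mul, show algebraMap S L (π c₀) = y from hc₀]
        exact (mul_div_cancel₀ _ haL).symm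
      obtain ⟨r, hr⟩ := (hπ (d - a₀ * c₀)).mp (by rw [map_sub, hdc, sub_self])
      obtain ⟨i, hi⟩ := Nat.exists_eq_add_of_le hkn
      refine ⟨c + t ^ i * c₀, r, ?_⟩
      rw [hbd, show d = a₀ * c₀ + t * r from eq_add_of_sub_eq' hr, hak, hi, pow_succ, pow_add]
      ring
  obtain ⟨c, hc⟩ : a ∣ b := by
    rw [← Ideal.mem_span_singleton, ← Ideal.Quotient.eq_zero_iff_mem]
    by_cases htop : Ideal.span {a} = ⊤
    · exact (Ideal.Quotient.eq_zero_iff_mem).mpr (htop ▸ Submodule.mem_top)
    haveI : Nontrivial (R ⧸ Ideal.span {a}) := Ideal.Quotient.nontrivial_iff.mpr htop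
    haveI : IsLocalRing (R ⧸ Ideal.span {a}) := IsLocalRing.of_surjective' _ Ideal.Quotient.mk_surjective
    haveI : IsLocalHom (Ideal.Quotient.mk (Ideal.span {a})) :=
      IsLocalHom.of_surjective _ Ideal.Quotient.mk_surjective
    have h : Ideal.Quotient.mk (Ideal.span {a}) b ∈ ⨅ n : ℕ, maximalIdeal (R ⧸ Ideal.span {a}) ^ n := by
      refine (Submodule.mem_iInf _).mpr fun n ↦ ?_
      obtain ⟨c, d, hbd⟩ := key n
      rw [hbd, map_add, map_mul, map_mul, map_pow, Ideal.Quotient.eq_zero_iff_mem.mpr (Ideal.mem_span_singleton_self a),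
        zero_mul, zero_add]
      refine Ideal.mul_mem_right _ _ (Ideal.pow_mem_pow ((mem_maximalIdeal _).mpr fun hu ↦ (mem_maximalIdeal _).mp ht ?_) n)
      exact (isUnit_map_iff (Ideal.Quotient.mk (Ideal.span {a})) t).mp hu
    rwa [Ideal.iInf_pow_eq_bot_of_isLocalRing _ (maximalIdeal.isMaximal _).ne_top] at h
  exact ⟨c, by rw [eq_div_iff haK, ← map_mul, hc, mul_comm]⟩

theorem isLiftProp_regular : IsLiftProp RegLoc.{u} :=
  { isGeomProp_regular with
    lift := fun R _ _ _ t ht hreg h ↦ by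
      haveI : Nontrivial (R ⧸ Ideal.span {t}) := Ideal.Quotient.nontrivial_iff.mpr
        (ne_top_of_le_ne_top (maximalIdeal.isMaximal R).ne_top ((Ideal.span_singleton_le_iff_mem _).mpr ht))
      haveI : IsLocalRing (R ⧸ Ideal.span {t}) := IsLocalRing.of_surjective' _ Ideal.Quotient.mk_surjective
      haveI : IsRegularLocalRing (R ⧸ Ideal.span {t}) :=
        ringP_at_maximalIdeal isFlatLocalProp_regular h
      haveI : IsRegularLocalRing (R ⧸ Ideal.ofList [t]) :=
        IsRegularLocalRing.of_ringEquiv (R := R ⧸ Ideal.span {t}) (Ideal.quotEquivOfEq (by simp [Ideal.ofList]))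
      haveI : IsRegularLocalRing R := CommAlgDim.isRegularLocalRing_of_quotient R (rs := [t])
        (CommAlgDim.isRegular_cons_ring.2 ⟨hreg, RingTheory.Sequence.IsRegular.nil _ _⟩)
      exact (isRegularRing_iff R).mp (CommAlgDim.isRegularRing_of_isRegularLocalRing R) }

theorem isLiftProp_cm : IsLiftProp CMLoc.{u} :=
  { isGeomProp_cm with
    lift := fun R _ _ _ t ht hreg h ↦ by
      haveI : Nontrivial (R ⧸ Ideal.span {t}) := Ideal.Quotient.nontrivial_iff.mpr
        (ne_top_of_le_ne_top (maximalIdeal.isMaximal R).ne_top ((Ideal.span_singleton_le_iff_mem _).mpr ht))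
      haveI : IsLocalRing (R ⧸ Ideal.span {t}) := IsLocalRing.of_surjective' _ Ideal.Quotient.mk_surjective
      have hq : CommAlgDim.IsCM (R ⧸ Ideal.span {t}) :=
        (CMFlatLib.isCohenMacaulayLocalRing_iff_isCM _).mp (ringP_at_maximalIdeal isFlatLocalProp_cm h)
      intro q _
      exact (CMFlatLib.isCohenMacaulayLocalRing_iff_isCM _).mpr
        (CatLib.isCM_localization ((CMFlatLib.isCM_quotient_iff hreg ht).mp hq) q) }

theorem isLiftProp_redLoc : IsLiftProp RedLoc.{u} :=
  { isGeomProp_and (isGeomProp_rkLoc 0) (isGeomProp_skLoc 1) with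
    lift := fun R _ _ _ t ht hreg h ↦ by
      haveI := (ringP_redLoc_iff (R ⧸ Ideal.span {t})).mp h
      refine (ringP_redLoc_iff R).mpr ?_
      have hle : nilradical R ≤ Ideal.span {t} • nilradical R := fun x hx ↦ by
        obtain ⟨y, rfl⟩ : t ∣ x := by
          rw [← Ideal.mem_span_singleton, ← Ideal.Quotient.eq_zero_iff_mem]
          exact ((mem_nilradical.mp hx).map _).eq_zero
        refine Submodule.smul_mem_smul (Ideal.mem_span_singleton_self t) ?_
        obtain ⟨m, hm⟩ := mem_nilradical.mp hx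
        rw [mul_pow] at hm
        exact mem_nilradical.mpr ⟨m, (hreg.pow m) (by simpa using hm)⟩
      refine nilradical_eq_bot_iff.mp (Submodule.eq_bot_of_le_smul_of_le_jacobson_bot _ _
        (IsNoetherian.noetherian _) hle ?_)
      rw [jacobson_eq_maximalIdeal _ bot_ne_top]
      exact (Ideal.span_singleton_le_iff_mem _).mpr ht }

theorem isLiftProp_norLoc : IsLiftProp NorLoc.{u} :=
  { isGeomProp_and (isGeomProp_rkLoc 1) (isGeomProp_skLoc 2) with
    lift := fun R _ _ _ t ht hreg h ↦ by
      haveI : Nontrivial (R ⧸ Ideal.span {t}) := Ideal.Quotient.nontrivial_iff.mpr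
        (ne_top_of_le_ne_top (maximalIdeal.isMaximal R).ne_top ((Ideal.span_singleton_le_iff_mem _).mpr ht))
      haveI : IsLocalRing (R ⧸ Ideal.span {t}) := IsLocalRing.of_surjective' _ Ideal.Quotient.mk_surjective
      obtain ⟨_, _⟩ := (ringP_norLoc_local_iff (R ⧸ Ideal.span {t})).mp h
      exact (ringP_norLoc_local_iff R).mpr (normal_of_quotient ht hreg) }

end CplExcLib
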