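import Groth.Agent.CplExcLib.LiftProp
import Groth.Agent.CatLib.Flat
import Groth.Agent.GeomRedFibLib.SepAlg
import Mathlib.RingTheory.Ideal.KrullsHeightTheorem
import Mathlib.RingTheory.DedekindDomain.Basic

/-!
# Lifting along a regular base, and some finiteness lemmas
-/

set_option autoImplicit false
set_option maxHeartbeats 800000

universe u

open IsLocalRing TensorProduct

namespace CplExcLib

open GeomRedFibLib

variable {P : ∀ (R : Type u) [CommRing R], Prop} (hP : IsLiftProp P)

include hP in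
theorem ringP_of_regular_base_aux : ∀ (n : ℕ) (S R : Type u) [CommRing S] [IsRegularLocalRing S] [CommRing R]
    [IsLocalRing R] [IsNoetherianRing R] [Algebra S R] [IsLocalHom (algebraMap S R)] [Module.Flat S R],
    ringKrullDim S ≤ (n : WithBot ℕ∞) → RingP P (R ⧸ (maximalIdeal S).map (algebraMap S R)) → RingP P R := by
  intro n
  induction n with
  | zero =>
    intro S R _ _ _ _ _ _ _ _ hS h
    haveI : IsDomain S := CommAlgDim.isDomain_of_isRegularLocalRing S
    haveI : Ring.KrullDimLE 0 S := Order.krullDimLE_iff _ _ |>.mpr (by simpa [ringKrullDim] using hS)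
    have hbot : maximalIdeal S = ⊥ := IsLocalRing.isField_iff_maximalIdeal_eq.mp Ring.KrullDimLE.isField_of_isDomain
    exact RingP.congr hP.toIsFlatLocalProp
      ((Ideal.quotEquivOfEq (by rw [hbot, Ideal.map_bot])).trans (RingEquiv.quotientBot R)) h
  | succ n ih =>
    intro S R _ _ _ _ _ _ _ _ hS h
    by_cases hS0 : ringKrullDim S ≤ (n : WithBot ℕ∞)
    · exact ih S R hS0 h
    obtain ⟨t, ht, ht2⟩ : ∃ t ∈ maximalIdeal S, t ∉ maximalIdeal S ^ 2 := by
      by_contra hcon
      push Not at hcon
      have hbot : maximalIdeal S = ⊥ :=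
        Submodule.eq_bot_of_le_smul_of_le_jacobson_bot _ _ (IsNoetherian.noetherian _)
          (fun x hx ↦ by rw [smul_eq_mul, ← pow_two]; exact hcon x hx) (maximalIdeal_le_jacobson _)
      refine hS0 (le_trans (le_of_eq (ringKrullDim_eq_zero_of_isField (IsLocalRing.isField_iff_maximalIdeal_eq.mpr hbot))) ?_)
      exact_mod_cast Nat.zero_le n
    haveI := CommAlgDim.isRegularLocalRing_quotient_singleton ht ht2
    haveI : IsDomain S := CommAlgDim.isDomain_of_isRegularLocalRing S
    have ht0 : t ≠ 0 := fun h0 ↦ ht2 (h0 ▸ zero_mem _)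
    have htS : IsSMulRegular S t := (IsRegular.of_ne_zero ht0).left.isSMulRegular
    let t' := algebraMap S R t
    have ht' : t' ∈ maximalIdeal R := map_nonunit (algebraMap S R) t ht
    have htR : IsSMulRegular R t' := by
      intro x y hxy
      exact (htS.of_flat (S := R)) hxy
    have hdim : ringKrullDim (S ⧸ Ideal.span {t}) ≤ (n : WithBot ℕ∞) := by
      have h1 := ringKrullDim_quotient_span_singleton_succ_eq_ringKrullDim htS ht
      obtain ⟨d, hd⟩ := CommAlgDim.exists_ringKrullDim_eq (R := S ⧸ Ideal.span {t})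
      rw [hd] at h1 ⊢
      rw [← h1] at hS
      norm_cast at hS ⊢
      omega
    let I := (Ideal.span {t}).map (algebraMap S R)
    have hI : I = Ideal.span {t'} := by simp only [I, Ideal.map_span, Set.image_singleton, t']
    haveI : Nontrivial (R ⧸ I) := Ideal.Quotient.nontrivial_iff.mpr
      (hI ▸ ne_top_of_le_ne_top (maximalIdeal.isMaximal R).ne_top ((Ideal.span_singleton_le_iff_mem _).mpr ht'))
    haveI : IsLocalRing (R ⧸ I) := IsLocalRing.of_surjective' _ Ideal.Quotient.mk_surjective
    haveI : Module.Flat (S ⧸ Ideal.span {t}) (R ⧸ I) := CatLib.flat_quotient (Ideal.span {t})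
    haveI : IsLocalHom (algebraMap (S ⧸ Ideal.span {t}) (R ⧸ I)) := ⟨fun x hx ↦ by
      obtain ⟨x, rfl⟩ := Ideal.Quotient.mk_surjective x
      haveI : IsLocalHom (Ideal.Quotient.mk I) := IsLocalHom.of_surjective _ Ideal.Quotient.mk_surjective
      exact ((isUnit_map_iff (algebraMap S R) x).mp ((isUnit_map_iff (Ideal.Quotient.mk I) _).mp hx)).map _⟩
    refine hP.lift R t' ht' htR (RingP.congr hP.toIsFlatLocalProp (Ideal.quotEquivOfEq hI)
      (ih (S ⧸ Ideal.span {t}) (R ⧸ I) hdim ?_))
    have hm : maximalIdeal (S ⧸ Ideal.span {t}) = (maximalIdeal S).map (Ideal.Quotient.mk _) :=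
      (IsLocalRing.map_maximalIdeal_of_surjective _ Ideal.Quotient.mk_surjective).symm
    refine RingP.congr hP.toIsFlatLocalProp ((DoubleQuot.quotQuotEquivQuotOfLE
      (Ideal.map_mono ((Ideal.span_singleton_le_iff_mem _).mpr ht))).symm.trans (Ideal.quotEquivOfEq ?_)) h
    rw [hm, Ideal.map_map, Ideal.map_map]
    rfl

include hP in
/-- A flat local algebra over a regular local ring has the property as soon as its closed fibre does. -/
theorem ringP_of_regular_base (S R : Type u) [CommRing S] [IsRegularLocalRing S] [CommRing R]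
    [IsLocalRing R] [IsNoetherianRing R] [Algebra S R] [IsLocalHom (algebraMap S R)] [Module.Flat S R]
    (h : RingP P (R ⧸ (maximalIdeal S).map (algebraMap S R))) : RingP P R := by
  obtain ⟨d, hd⟩ := CommAlgDim.exists_ringKrullDim_eq (R := S)
  exact ringP_of_regular_base_aux hP d S R hd.le h

include hP in
/-- At a point over a regular point of the base, the property follows from that of the fibre. -/
theorem ringP_at_of_regular_point (A B : Type u) [CommRing A] [CommRing B] [IsNoetherianRing B] [Algebra A B]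
    [Module.Flat A B] (q : Ideal B) [q.IsPrime] [IsRegularLocalRing (Localization.AtPrime (q.comap (algebraMap A B)))]
    (hfib : RingP P ((q.comap (algebraMap A B)).Fiber B)) : RingP P (Localization.AtPrime q) := by
  let p := q.comap (algebraMap A B)
  haveI : q.LiesOver p := ⟨rfl⟩
  letI := Localization.AtPrime.algebraOfLiesOver p q
  haveI : IsLocalHom (algebraMap (Localization.AtPrime p) (Localization.AtPrime q)) :=
    inferInstanceAs (IsLocalHom (Localization.localRingHom p q (algebraMap A B) rfl))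
  haveI : Module.Flat (Localization.AtPrime p) (Localization.AtPrime q) :=
    RingHom.flat_algebraMap_iff.mp <| RingHom.Flat.localRingHom (RingHom.flat_algebraMap_iff.mpr ‹_›) ..
  refine ringP_of_regular_base hP (Localization.AtPrime p) (Localization.AtPrime q) ?_
  obtain ⟨Q, hQ, hQq⟩ := CMFlatLib.exists_fibre_point (R := A) (B := B) ⟨q, inferInstance⟩
  obtain ⟨θ, -⟩ := CMFlatLib.exists_fibreLocal_equiv p Q q hQq
  refine RingP.congr hP.toIsFlatLocalProp (θ.symm.trans (Ideal.quotEquivOfEq ?_))
    ((ringP_localization_iff hP.toIsFlatLocalProp Q).mpr fun Q' _ _ ↦ hfib Q')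
  rw [← IsLocalization.AtPrime.map_eq_maximalIdeal p (Localization.AtPrime p), Ideal.map_map,
    ← IsScalarTower.algebraMap_eq]

/-- In a Noetherian domain, if some non-zero element lies in every non-zero prime then all non-zero primes
are maximal. -/
theorem dimensionLEOne_of_mem_primes (R : Type u) [CommRing R] [IsDomain R] [IsNoetherianRing R] (f : R) (hf0 : f ≠ 0)
    (hf : ∀ Q : Ideal R, Q.IsPrime → Q ≠ ⊥ → f ∈ Q) : Ring.DimensionLEOne R := by
  classical
  constructor
  intro Q hQ0 hQ
  haveI := hQ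
  by_contra hmax
  obtain ⟨M, hM, hQM⟩ := Ideal.exists_le_maximal Q hQ.ne_top
  have hlt : Q < M := lt_of_le_of_ne hQM fun h ↦ hmax (h ▸ hM)
  haveI := hM.isPrime
  have hfin : (Ideal.span {f}).minimalPrimes.Finite := Ideal.finite_minimalPrimes_of_isNoetherianRing R _
  have hmin : ∀ s ∈ (Ideal.span {f}).minimalPrimes, s ≠ ⊥ := fun s hs h ↦ by
    have h1 := hs.1.2 (Ideal.mem_span_singleton_self f)
    rw [h, Ideal.mem_bot] at h1
    exact hf0 h1
  have hM2 : ∀ s ∈ (Ideal.span {f}).minimalPrimes, ¬ M ≤ s := fun s hs hMs ↦ by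
    haveI := hs.1.1
    have hh := Ideal.height_le_one_of_isPrincipal_of_mem_minimalPrimes (Ideal.span {f}) s hs
    have h1 : (⊥ : Ideal R).height < Q.height :=
      Ideal.height_strict_mono_of_isPrime (bot_lt_iff_ne_bot.mpr hQ0)
    have h2 : Q.height < s.height := Ideal.height_strict_mono_of_isPrime (hlt.trans_le hMs)
    have : (1 : ℕ∞) < s.height := lt_of_le_of_lt (Order.one_le_iff_pos.mpr (bot_le.trans_lt h1)) h2
    exact (not_le.mpr this) hh
  have hav : ¬ ((M : Set R) ⊆ ⋃ s ∈ (hfin.toFinset : Set (Ideal R)), (s : Set R)) := by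
    rw [Ideal.subset_union_prime ⊥ ⊥ fun s hs _ _ ↦ (hfin.mem_toFinset.mp hs).1.1]
    rintro ⟨s, hs, hMs⟩
    exact hM2 s (hfin.mem_toFinset.mp hs) hMs
  obtain ⟨x, hxM, hx⟩ := Set.not_subset.mp hav
  simp only [Set.mem_iUnion, SetLike.mem_coe, Set.Finite.mem_toFinset, exists_prop, not_exists, not_and] at hx
  obtain ⟨P₁, hP₁, hP₁M⟩ := Ideal.exists_minimalPrimes_le (I := Ideal.span {x}) (J := M)
    ((Ideal.span_singleton_le_iff_mem _).mpr hxM)
  haveI := hP₁.1.1
  have hx0 : x ≠ 0 := by
    rintro rfl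
    obtain ⟨s, hs, -⟩ := Ideal.exists_minimalPrimes_le (I := Ideal.span {f}) (J := M)
      ((Ideal.span_singleton_le_iff_mem _).mpr (hf M hM.isPrime fun h ↦ not_lt_bot (h ▸ hlt)))
    exact hx s hs s.zero_mem
  have hP₁0 : P₁ ≠ ⊥ := fun h ↦ hx0 (by
    have h1 := hP₁.1.2 (Ideal.mem_span_singleton_self x)
    rwa [h, Ideal.mem_bot] at h1)
  obtain ⟨s, hs, hsP₁⟩ := Ideal.exists_minimalPrimes_le (I := Ideal.span {f}) (J := P₁)
    ((Ideal.span_singleton_le_iff_mem _).mpr (hf P₁ inferInstance hP₁0))
  haveI := hs.1.1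
  have hsne : s ≠ P₁ := fun h ↦ hx s hs (h ▸ hP₁.1.2 (Ideal.mem_span_singleton_self x))
  have h1 : (⊥ : Ideal R).height < s.height :=
    Ideal.height_strict_mono_of_isPrime (bot_lt_iff_ne_bot.mpr (hmin s hs))
  have h2 : s.height < P₁.height := Ideal.height_strict_mono_of_isPrime (lt_of_le_of_ne hsP₁ hsne)
  have h3 : (1 : ℕ∞) < P₁.height := lt_of_le_of_lt (Order.one_le_iff_pos.mpr (bot_le.trans_lt h1)) h2
  exact (not_le.mpr h3) (Ideal.height_le_one_of_isPrincipal_of_mem_minimalPrimes (Ideal.span {x}) P₁ hP₁)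

/-- A quotient of a Noetherian algebra is finite over the base if all its primes have finite quotients. -/
theorem finite_quotient_of_forall_prime (A C : Type u) [CommRing A] [CommRing C] [Algebra A C] [IsNoetherianRing C]
    (I : Ideal C) (h : ∀ P : Ideal C, P.IsPrime → I ≤ P → Module.Finite A (C ⧸ P)) : Module.Finite A (C ⧸ I) := by
  induction I using (wellFounded_gt (α := Ideal C)).induction with
  | _ I ih =>
    by_cases hI : I = ⊤
    · haveI : Subsingleton (C ⧸ I) := Ideal.Quotient.subsingleton_iff.mpr hI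
      exact Module.Finite.of_finite
    by_cases hprime : I.IsPrime
    · exact h I hprime le_rfl
    obtain ⟨a, ha, b, hb, hab⟩ : ∃ a, a ∉ I ∧ ∃ b, b ∉ I ∧ a * b ∈ I := by
      by_contra hcon
      push Not at hcon
      exact hprime ⟨hI, fun {a b} hab ↦ by
        by_contra h'
        rw [not_or] at h'
        exact hcon a h'.1 b h'.2 hab⟩
    let J := I ⊔ Ideal.span {a}
    let K : Ideal C := Submodule.colon I (Set.range fun _ : Unit ↦ a)
    have hIJ : I < J := lt_of_le_of_ne le_sup_left fun heq ↦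
      ha (heq ▸ Ideal.mem_sup_right (Ideal.mem_span_singleton_self a) : a ∈ I)
    have hIK : I < K := by
      refine lt_of_le_of_ne (fun x hx ↦ Submodule.mem_colon.mpr (by
        rintro _ ⟨-, rfl⟩; exact Ideal.mul_mem_right _ _ hx)) fun heq ↦ hb ?_
      rw [heq]
      exact Submodule.mem_colon.mpr (by
        rintro _ ⟨-, rfl⟩; rw [smul_eq_mul, mul_comm]; exact hab)
    haveI hJ := ih J hIJ fun P hP' hle ↦ h P hP' (hIJ.le.trans hle)
    haveI hK := ih K hIK fun P hP' hle ↦ h P hP' (hIK.le.trans hle)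
    let g : (C ⧸ I) →ₐ[A] (C ⧸ J) := Ideal.Quotient.factorₐ A le_sup_left
    let f : (C ⧸ K) →ₗ[A] (C ⧸ I) := (Submodule.mapQ K I (LinearMap.mulRight C a) fun x hx ↦ by
      have := Submodule.mem_colon.mp hx a ⟨(), rfl⟩
      simpa [mul_comm] using this).restrictScalars A
    have hg : Function.Surjective g := Ideal.Quotient.factor_surjective le_sup_left
    refine ⟨Submodule.fg_of_fg_map_of_fg_inf_ker g.toLinearMap ?_ ?_⟩
    · rw [Submodule.map_top, LinearMap.range_eq_top.mpr hg]
      exact hJ.fg_top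
    · rw [top_inf_eq]
      have hker : LinearMap.ker g.toLinearMap = LinearMap.range f := by
        refine le_antisymm (fun x hx ↦ ?_) ?_
        · obtain ⟨x, rfl⟩ := Ideal.Quotient.mk_surjective x
          have hxJ : x ∈ I ⊔ Ideal.span {a} := Ideal.Quotient.eq_zero_iff_mem.mp hx
          obtain ⟨i, hi, z, hz, rfl⟩ := Submodule.mem_sup.mp hxJ
          obtain ⟨c, rfl⟩ := Ideal.mem_span_singleton'.mp hz
          refine ⟨Ideal.Quotient.mk K c, ?_⟩
          show Ideal.Quotient.mk I (c * a) = Ideal.Quotient.mk I (i + c * a)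
          rw [map_add, Ideal.Quotient.eq_zero_iff_mem.mpr hi, zero_add]
        · rintro _ ⟨x, rfl⟩
          obtain ⟨x, rfl⟩ := Ideal.Quotient.mk_surjective x
          show Ideal.Quotient.mk J (x * a) = 0
          exact Ideal.Quotient.eq_zero_iff_mem.mpr
            (Ideal.mul_mem_left _ _ (Ideal.mem_sup_right (Ideal.mem_span_singleton_self a)))
      rw [hker]
      exact (hK.fg_top).map f |> fun h' ↦ by rwa [Submodule.map_top] at h'

end CplExcLib
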