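import Groth.Prelude.Def_EGA4b
import Groth.Agent.J2Lib.Generic
import Groth.Agent.CohenLib.RegularField
import Groth.Agent.CommAlgDim.Regular
import Mathlib.RingTheory.Polynomial.IsIntegral
import Mathlib.RingTheory.Polynomial.Basic
import Mathlib.RingTheory.Etale.Field
import Mathlib.FieldTheory.KummerPolynomial
import Mathlib.Algebra.TrivSqZeroExt.Basic

/-!
# Generic regularity of a radical extension of degree `p`
-/

set_option autoImplicit false
set_option maxHeartbeats 800000

universe u

open Polynomial EGA4 IsLocalRing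

namespace CplExcLib

/-- The regular locus of a finite birational extension of a generically regular domain. -/
theorem exists_open_regLocus_of_birational (U V : Type u) [CommRing U] [IsDomain U] [IsNoetherianRing U]
    [CommRing V] [IsDomain V] [Algebra U V] [Algebra.FiniteType U V] (hinj : Function.Injective (algebraMap U V))
    (hbir : ∀ v : V, ∃ a b : U, b ≠ 0 ∧ algebraMap U V b * v = algebraMap U V a)
    (h : ∃ W : Set (PrimeSpectrum U), IsOpen W ∧ W.Nonempty ∧ W ⊆ regLocus U) :
    ∃ W : Set (PrimeSpectrum V), IsOpen W ∧ W.Nonempty ∧ W ⊆ regLocus V := by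
  haveI : IsFractionRing U (FractionRing V) := by
    have hinj' : Function.Injective (algebraMap U (FractionRing V)) := by
      rw [IsScalarTower.algebraMap_eq U V (FractionRing V)]
      exact (IsFractionRing.injective V (FractionRing V)).comp hinj
    refine ⟨fun y ↦ isUnit_iff_ne_zero.mpr ((map_ne_zero_iff _ hinj').mpr (nonZeroDivisors.ne_zero y.2)), fun z ↦ ?_,
      fun {x y} he ↦ ⟨1, by rw [hinj' he]⟩⟩
    obtain ⟨a, b, hb, rfl⟩ := IsFractionRing.div_surjective V z
    obtain ⟨a₁, a₂, ha₂, ha⟩ := hbir a
    obtain ⟨b₁, b₂, hb₂, hb'⟩ := hbir b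
    have hbne : algebraMap V (FractionRing V) b ≠ 0 :=
      (map_ne_zero_iff _ (IsFractionRing.injective V (FractionRing V))).mpr (nonZeroDivisors.ne_zero hb)
    have hb₁ : b₁ ≠ 0 := fun h0 ↦ by
      rw [h0, map_zero, mul_eq_zero, map_eq_zero_iff _ hinj, or_iff_right hb₂] at hb'
      exact nonZeroDivisors.ne_zero hb hb'
    refine ⟨⟨a₁ * b₂, ⟨a₂ * b₁, mem_nonZeroDivisors_of_ne_zero (mul_ne_zero ha₂ hb₁)⟩⟩, ?_⟩
    show algebraMap V (FractionRing V) a / algebraMap V (FractionRing V) b * algebraMap U (FractionRing V) (a₂ * b₁) =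
      algebraMap U (FractionRing V) (a₁ * b₂)
    simp only [map_mul, IsScalarTower.algebraMap_apply U V (FractionRing V), ← ha, ← hb']
    field_simp
  haveI : Algebra.FormallySmooth U (FractionRing V) := Algebra.FormallySmooth.of_isLocalization (nonZeroDivisors U)
  exact J2Lib.exists_open_regLocus_of_formallySmooth U V hinj h

/-- A radical extension `V = U[a]`, `a ^ p = f`, of degree `p` of a generically regular domain is generically
regular as soon as a derivation of `U` moves `f`. -/
theorem exists_open_regLocus_of_radical (p : ℕ) [Fact p.Prime] (U V : Type u) [CommRing U] [IsDomain U]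
    [IsNoetherianRing U] [CharP U p] [CommRing V] [IsDomain V] [Algebra U V] (hinj : Function.Injective (algebraMap U V))
    (a : V) (hgen : Function.Surjective (Polynomial.aeval (R := U) a)) (f : U) (haf : a ^ p = algebraMap U V f)
    (hf : ∀ y : FractionRing U, y ^ p ≠ algebraMap U (FractionRing U) f) (D : Derivation ℤ U U) (hD : D f ≠ 0)
    (h : ∃ W : Set (PrimeSpectrum U), IsOpen W ∧ W.Nonempty ∧ W ⊆ regLocus U) :
    ∃ W : Set (PrimeSpectrum V), IsOpen W ∧ W.Nonempty ∧ W ⊆ regLocus V := by
  classical
  obtain ⟨W, hWo, ⟨x, hx⟩, hW⟩ := h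
  obtain ⟨_, ⟨g, rfl⟩, hxg, hgW⟩ :=
    PrimeSpectrum.isTopologicalBasis_basic_opens.exists_subset_of_mem_open hx hWo
  have hg0 : g ≠ 0 := fun hg ↦ hxg (show g ∈ x.asIdeal from hg ▸ zero_mem _)
  haveI : IsRegularRing (Localization.Away g) := (J2Lib.isRegularRing_away_iff g).2 (hgW.trans hW)
  haveI : Algebra.Smooth (Localization.Away g) (Localization.Away g)[X] := ⟨inferInstance, inferInstance⟩
  haveI : IsRegularRing (Localization.Away g)[X] := CohenLib.isRegularRing_of_smooth (Localization.Away g) _
  -- the kernel of `U[X] → V`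
  let φ : U[X] →+* V := (Polynomial.aeval (R := U) a).toRingHom
  let F : U[X] := X ^ p - C f
  have hFm : F.Monic := monic_X_pow_sub_C _ (Fact.out : p.Prime).ne_zero
  have hφF : φ F = 0 := by simp [φ, F, haf]
  have hker : ∀ q, φ q = 0 → F ∣ q := by
    intro q hq
    rw [← modByMonic_eq_zero_iff_dvd hFm]
    set r := q %ₘ F
    have hr : φ r = 0 := by
      have h' := congrArg φ (modByMonic_add_div q F)
      rw [map_add, map_mul, hφF, zero_mul, add_zero] at h'
      exact h'.trans hq
    let K := FractionRing U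
    let L := FractionRing V
    haveI : FaithfulSMul U L := (faithfulSMul_iff_algebraMap_injective U L).mpr (by
      rw [IsScalarTower.algebraMap_eq U V L]; exact (IsFractionRing.injective V L).comp hinj)
    letI : Algebra K L := FractionRing.liftAlgebra U L
    let al := algebraMap V L a
    have hirr : Irreducible (X ^ p - C (algebraMap U K f)) :=
      X_pow_sub_C_irreducible_of_prime (Fact.out : p.Prime) hf
    have hmin : minpoly K al = X ^ p - C (algebraMap U K f) := (minpoly.eq_of_irreducible_of_monic hirr (by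
      show aeval (algebraMap V L a) (X ^ p - C (algebraMap U K f)) = 0
      rw [map_sub, map_pow, aeval_X, aeval_C, ← map_pow, haf, ← IsScalarTower.algebraMap_apply,
        ← IsScalarTower.algebraMap_apply, sub_self])
      (monic_X_pow_sub_C _ (Fact.out : p.Prime).ne_zero)).symm
    have hdvd : minpoly K al ∣ r.map (algebraMap U K) := minpoly.dvd K al (by
      show aeval (algebraMap V L a) (r.map (algebraMap U K)) = 0
      rw [aeval_map_algebraMap, ← IsScalarTower.toAlgHom_apply U V L, aeval_algHom_apply]
      exact (congrArg _ hr).trans (map_zero _))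
    by_contra hr0
    have hle := natDegree_le_of_dvd hdvd
      ((Polynomial.map_ne_zero_iff (IsFractionRing.injective U K)).mpr hr0)
    rw [hmin, natDegree_X_pow_sub_C, natDegree_map_eq_of_injective (IsFractionRing.injective U K)] at hle
    have hlt : r.natDegree < p := by
      have := natDegree_modByMonic_lt q hFm (by
        intro h1
        have := congrArg natDegree h1
        rw [natDegree_X_pow_sub_C, natDegree_one] at this
        exact (Fact.out : p.Prime).ne_zero this)
      rwa [natDegree_X_pow_sub_C] at this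
    omega
  refine ⟨PrimeSpectrum.basicOpen (algebraMap U V (g * D f)), (PrimeSpectrum.basicOpen _).2,
    ⟨⟨⊥, Ideal.isPrime_bot⟩, fun h0 ↦ ?_⟩, fun P hP ↦ ?_⟩
  · exact mul_ne_zero hg0 hD ((map_eq_zero_iff _ hinj).mp h0)
  haveI := P.2
  let Q : Ideal U[X] := P.asIdeal.comap φ
  have hgQ : C g ∉ Q := fun h0 ↦ hP (by
    show algebraMap U V (g * D f) ∈ P.asIdeal
    rw [map_mul]
    exact Ideal.mul_mem_right _ _ (by simpa [Q, φ] using h0))
  have hDQ : C (D f) ∉ Q := fun h0 ↦ hP (by
    show algebraMap U V (g * D f) ∈ P.asIdeal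
    rw [map_mul]
    exact Ideal.mul_mem_left _ _ (by simpa [Q, φ] using h0))
  let RQ := Localization.AtPrime Q
  haveI : IsRegularLocalRing RQ := by
    let M := (Submonoid.powers g).map (C : U →+* U[X])
    letI : Algebra U[X] (Localization.Away g)[X] := (Polynomial.mapRingHom (algebraMap U (Localization.Away g))).toAlgebra
    haveI : IsLocalization M (Localization.Away g)[X] := Polynomial.isLocalization (Submonoid.powers g) (Localization.Away g)
    have hdisj : Disjoint (M : Set U[X]) Q := Set.disjoint_left.mpr (by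
      rintro _ ⟨_, ⟨m, rfl⟩, rfl⟩ hm
      rw [SetLike.mem_coe, map_pow] at hm
      exact hgQ ((inferInstance : Q.IsPrime).mem_of_pow_mem _ hm))
    let Q' := Q.map (algebraMap U[X] (Localization.Away g)[X])
    haveI : Q'.IsPrime := IsLocalization.isPrime_of_isPrime_disjoint M _ Q inferInstance hdisj
    haveI h1 : IsLocalization.AtPrime (Localization.AtPrime Q') (Q'.comap (algebraMap U[X] (Localization.Away g)[X])) :=
      IsLocalization.isLocalization_isLocalization_atPrime_isLocalization M _ Q'
    have hQ' : Q'.comap (algebraMap U[X] (Localization.Away g)[X]) = Q :=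
      IsLocalization.under_map_of_isPrime_disjoint M _ inferInstance hdisj
    haveI : IsLocalization.AtPrime (Localization.AtPrime Q') Q := by
      simpa only [hQ'] using h1
    haveI : IsRegularLocalRing (Localization.AtPrime Q') :=
      IsRegularRing.isRegularLocalRing_localization (R := (Localization.Away g)[X]) Q'
    exact IsRegularLocalRing.of_ringEquiv (R := Localization.AtPrime Q')
      (IsLocalization.algEquiv Q.primeCompl (Localization.AtPrime Q') RQ).toRingEquiv
  have hFQ : F ∈ Q := by show φ F ∈ P.asIdeal; rw [hφF]; exact zero_mem _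
  -- `F` is not in the square of the maximal ideal
  have hF2 : algebraMap U[X] RQ F ∉ maximalIdeal RQ ^ 2 := by
    intro hmem
    rw [← Localization.AtPrime.map_eq_maximalIdeal, ← Ideal.map_pow,
      IsLocalization.mem_map_algebraMap_iff Q.primeCompl] at hmem
    obtain ⟨⟨⟨b, hb⟩, ⟨s, hs⟩⟩, hbs⟩ := hmem
    rw [← map_mul] at hbs
    obtain ⟨⟨t, ht⟩, hts⟩ := (IsLocalization.eq_iff_exists Q.primeCompl RQ).mp hbs
    simp only at hts
    let ψ₀ : U →+* TrivSqZeroExt U[X] U[X] :=
      { toFun := fun u ↦ TrivSqZeroExt.inl (C u) + TrivSqZeroExt.inr (C (D u))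
        map_one' := by ext <;> simp
        map_mul' := fun u v ↦ by
          ext <;> simp [Derivation.leibniz, mul_comm]
        map_zero' := by ext <;> simp
        map_add' := fun u v ↦ by ext <;> simp }
    let ψ := Polynomial.eval₂RingHom ψ₀ (TrivSqZeroExt.inl X)
    have hfst : ∀ q, (ψ q).fst = q := fun q ↦ by
      have h : (TrivSqZeroExt.fstHom U[X] U[X] U[X]).toRingHom.comp ψ = RingHom.id _ :=
        Polynomial.ringHom_ext (fun u ↦ by simp [ψ, ψ₀]) (by simp [ψ])
      exact RingHom.congr_fun h q
    have hsq : ∀ q ∈ Q ^ 2, (ψ q).snd ∈ Q := by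
      intro q hq
      rw [pow_two] at hq
      refine Submodule.mul_induction_on hq (fun x hx y hy ↦ ?_) fun x y hx hy ↦ ?_
      · rw [map_mul, TrivSqZeroExt.snd_mul, hfst, hfst, smul_eq_mul, op_smul_eq_smul, smul_eq_mul]
        exact add_mem (Ideal.mul_mem_right _ _ hx) (Ideal.mul_mem_right _ _ hy)
      · rw [map_add, TrivSqZeroExt.snd_add]; exact add_mem hx hy
    have hmem2 : t * (F * s) ∈ Q ^ 2 := hts ▸ Ideal.mul_mem_left _ _ hb
    have h2 := hsq _ hmem2
    rw [show t * (F * s) = F * (t * s) by ring, map_mul, TrivSqZeroExt.snd_mul, hfst, hfst, smul_eq_mul, op_smul_eq_smul,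
      smul_eq_mul] at h2
    have hDF : (ψ F).snd = -C (D f) := by
      simp [ψ, ψ₀, F, TrivSqZeroExt.snd_pow]
    rw [hDF] at h2
    have h3 : t * s * -C (D f) ∈ Q := (Ideal.add_mem_iff_right Q (Ideal.mul_mem_right _ _ hFQ)).mp h2
    rcases (inferInstance : Q.IsPrime).mem_or_mem h3 with h4 | h4
    · exact ((inferInstance : Q.IsPrime).mem_or_mem h4).elim ht hs
    · exact hDQ (neg_mem_iff.mp h4)
  haveI := CommAlgDim.isRegularLocalRing_quotient_singleton
    ((IsLocalization.AtPrime.to_map_mem_maximal_iff RQ Q F).mpr hFQ) hF2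
  let χ : RQ →+* Localization.AtPrime P.asIdeal := Localization.localRingHom Q P.asIdeal φ rfl
  have hχ : Function.Surjective χ :=
    RingHom.surjectiveOnStalks_of_surjective hgen P.asIdeal inferInstance
  have hkerχ : RingHom.ker χ = Ideal.span {algebraMap U[X] RQ F} := by
    refine le_antisymm (fun z hz ↦ ?_) ((Ideal.span_singleton_le_iff_mem _).mpr (by
      rw [RingHom.mem_ker, Localization.localRingHom_to_map, hφF, map_zero]))
    obtain ⟨⟨b, s⟩, hbs⟩ := IsLocalization.surj Q.primeCompl z
    have h1 : algebraMap V (Localization.AtPrime P.asIdeal) (φ b) = 0 := by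
      rw [← Localization.localRingHom_to_map Q P.asIdeal φ rfl, ← hbs, map_mul, RingHom.mem_ker.mp hz, zero_mul]
    obtain ⟨⟨t, ht⟩, ht0⟩ := (IsLocalization.map_eq_zero_iff P.asIdeal.primeCompl _ _).mp h1
    obtain ⟨t', rfl⟩ := hgen t
    obtain ⟨c, hc⟩ := hker (t' * b) (by rw [map_mul]; exact ht0)
    refine Ideal.mem_span_singleton.mpr ?_
    have hu : IsUnit (algebraMap U[X] RQ (t' * s)) :=
      IsLocalization.map_units RQ (⟨t' * s, Q.primeCompl.mul_mem ht s.2⟩ : Q.primeCompl)
    rw [← hu.dvd_mul_right, map_mul, mul_left_comm, hbs, ← map_mul, hc, map_mul]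
    exact dvd_mul_right _ _
  exact IsRegularLocalRing.of_ringEquiv (R := RQ ⧸ Ideal.span {algebraMap U[X] RQ F})
    ((Ideal.quotEquivOfEq hkerχ).symm.trans (RingHom.quotientKerEquivOfSurjective hχ))

end CplExcLib
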