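import Groth.Agent.CplExcLib.Derivations
import Groth.Agent.CplExcLib.RadicalStep
import Groth.Agent.J2Lib.Descent
import Groth.Agent.CommAlgDim.RegularRing
import Groth.Agent.S0581
import Mathlib.FieldTheory.PurelyInseparable.Basic
import Mathlib.FieldTheory.Perfect

/-!
# Complete Noetherian local domains are generically regular
-/

set_option autoImplicit false
set_option maxHeartbeats 800000

universe u

open EGA4 IsLocalRing

namespace CplExcLib

theorem faithfulSMul_fractionRing (R U : Type u) [CommRing R] [CommRing U] [IsDomain U] [Algebra R U]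
    (hinj : Function.Injective (algebraMap R U)) : FaithfulSMul R (FractionRing U) := by
  rw [faithfulSMul_iff_algebraMap_injective, IsScalarTower.algebraMap_eq R U (FractionRing U)]
  exact (IsFractionRing.injective U _).comp hinj

/-- Generic regularity of a finite domain with separable fraction field over a regular domain. -/
theorem exists_open_regLocus_of_separable (R U : Type u) [CommRing R] [IsDomain R] [IsRegularRing R] [CommRing U]
    [IsDomain U] [Algebra R U] [Algebra.FiniteType R U] (hinj : Function.Injective (algebraMap R U))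
    [FaithfulSMul R (FractionRing U)] (h :
      letI := FractionRing.liftAlgebra R (FractionRing U)
      Algebra.IsSeparable (FractionRing R) (FractionRing U)) :
    ∃ W : Set (PrimeSpectrum U), IsOpen W ∧ W.Nonempty ∧ W ⊆ regLocus U := by
  letI := FractionRing.liftAlgebra R (FractionRing U)
  haveI : Algebra.IsSeparable (FractionRing R) (FractionRing U) := h
  haveI : Algebra.FormallySmooth R (FractionRing R) := Algebra.FormallySmooth.of_isLocalization (nonZeroDivisors R)
  haveI : Algebra.FormallyEtale (FractionRing R) (FractionRing U) := Algebra.FormallyEtale.of_isSeparable _ _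
  haveI : Algebra.FormallySmooth R (FractionRing U) := Algebra.FormallySmooth.comp R (FractionRing R) (FractionRing U)
  exact J2Lib.exists_open_regLocus_of_formallySmooth R U hinj
    ⟨Set.univ, isOpen_univ, ⟨⟨⊥, Ideal.isPrime_bot⟩, trivial⟩,
      fun q _ ↦ IsRegularRing.isRegularLocalRing_localization (R := R) q.asIdeal⟩

/-- A finite domain over a regular domain is generically regular, provided derivations detect `p`-th powers
in positive characteristic. -/
theorem exists_open_regLocus_of_derivations (R : Type u) [CommRing R] [IsDomain R] [IsRegularRing R]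
    (hder : ∀ (p : ℕ) [Fact p.Prime], CharP R p → ∀ (U : Type u) [CommRing U] [IsDomain U] [Algebra R U],
      Module.Finite R U → Function.Injective (algebraMap R U) → ∀ f : U,
        (∀ y : FractionRing U, y ^ p ≠ algebraMap U (FractionRing U) f) → ∃ D : Derivation ℤ U U, D f ≠ 0)
    (A : Type u) [CommRing A] [IsDomain A] [Algebra R A] [Module.Finite R A] (hinj : Function.Injective (algebraMap R A)) :
    ∃ W : Set (PrimeSpectrum A), IsOpen W ∧ W.Nonempty ∧ W ⊆ regLocus A := by
  classical
  let K := FractionRing R
  let L := FractionRing A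
  haveI : FaithfulSMul R L := faithfulSMul_fractionRing R A hinj
  letI := FractionRing.liftAlgebra R L
  haveI : Algebra.IsAlgebraic K L := by
    refine ⟨fun x ↦ ?_⟩
    obtain ⟨a, b, -, rfl⟩ := IsFractionRing.div_surjective A x
    have h : ∀ c : A, IsIntegral K (algebraMap A L c) := fun c ↦
      ((Algebra.IsIntegral.isIntegral (R := R) c).map (IsScalarTower.toAlgHom R A L)).tower_top
    exact ((h a).mul ((h b).inv)).isAlgebraic
  by_cases hperf : PerfectField K
  · exact exists_open_regLocus_of_separable R A hinj (inferInstance : Algebra.IsSeparable K L)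
  obtain ⟨p, hpK⟩ := CharP.exists K
  rcases CharP.char_is_prime_or_zero K p with hp | rfl
  swap
  · haveI := hpK
    haveI := CharP.charP_to_charZero K
    exact (hperf PerfectField.ofCharZero).elim
  haveI : Fact p.Prime := ⟨hp⟩
  haveI : ExpChar K p := ExpChar.prime hp
  haveI hR : CharP R p := (RingHom.charP_iff _ (IsFractionRing.injective R K) p).mpr hpK
  haveI : CharP A p := charP_of_injective_ringHom hinj p
  haveI : ExpChar A p := ExpChar.prime hp
  obtain ⟨s, hs⟩ := (Algebra.FiniteType.out : (⊤ : Subalgebra R A).FG)
  haveI : IsPurelyInseparable (separableClosure K L) L := separableClosure.isPurelyInseparable K L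
  have hexp : ∀ a : A, ∃ e : ℕ, algebraMap A L a ^ p ^ e ∈ separableClosure K L := fun a ↦ by
    obtain ⟨e, y, hy⟩ := IsPurelyInseparable.pow_mem (separableClosure K L) p (algebraMap A L a)
    exact ⟨e, hy ▸ y.2⟩
  choose e he using hexp
  let E := s.sup e
  have hE : ∀ a ∈ s, algebraMap A L a ^ p ^ E ∈ separableClosure K L := fun a ha ↦ by
    obtain ⟨d, hd⟩ := Nat.exists_eq_add_of_le (Finset.le_sup ha : e a ≤ E)
    show algebraMap A L a ^ p ^ s.sup e ∈ _
    rw [show s.sup e = e a + d from hd, pow_add, pow_mul]
    exact pow_mem (he a) _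
  let Good := fun B : Subalgebra R A ↦ ∃ W : Set (PrimeSpectrum B), IsOpen W ∧ W.Nonempty ∧ W ⊆ regLocus B
  have hfinB : ∀ B : Subalgebra R A, Module.Finite R B := fun B ↦
    Module.Finite.of_injective B.val.toLinearMap Subtype.val_injective
  have hnoeB : ∀ B : Subalgebra R A, IsNoetherianRing B := fun B ↦
    haveI := hfinB B
    IsNoetherianRing.of_finite R B
  have hinjB : ∀ B : Subalgebra R A, Function.Injective (algebraMap R B) := fun B x y h ↦
    hinj (congrArg Subtype.val h)
  -- one radical step
  have step : ∀ (B : Subalgebra R A) (a : A), a ^ p ∈ B → Good B → Good (Algebra.adjoin R (insert a (B : Set A))) := by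
    intro B a hap hB
    let B' := Algebra.adjoin R (insert a (B : Set A))
    have hle : B ≤ B' := fun x hx ↦ Algebra.subset_adjoin (Set.mem_insert_of_mem a hx)
    letI : Algebra B B' := (Subalgebra.inclusion hle).toRingHom.toAlgebra
    haveI : IsScalarTower B B' A := .of_algebraMap_eq fun _ ↦ rfl
    haveI : IsScalarTower R B B' := .of_algebraMap_eq fun _ ↦ rfl
    haveI := hnoeB B
    haveI := hfinB B'
    haveI : Module.Finite B B' := Module.Finite.of_restrictScalars_finite R B B'
    have hinj' : Function.Injective (algebraMap B B') := Subalgebra.inclusion_injective hle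
    let a' : B' := ⟨a, Algebra.subset_adjoin (Set.mem_insert a _)⟩
    have hgen : Function.Surjective (Polynomial.aeval (R := B) a') := fun v ↦ by
      have hv : (v : A) ∈ (Polynomial.aeval (R := B) a).range.restrictScalars R := by
        refine Algebra.adjoin_le ?_ v.2
        rintro x (rfl | hx)
        · exact ⟨Polynomial.X, Polynomial.aeval_X _⟩
        · exact ⟨Polynomial.C ⟨x, hx⟩, Polynomial.aeval_C _ _⟩
      obtain ⟨q, hq⟩ := hv
      refine ⟨q, Subtype.ext (Eq.trans ?_ hq)⟩
      exact (Polynomial.aeval_algHom_apply (IsScalarTower.toAlgHom B B' A) a' q).symm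
    let f : B := ⟨a ^ p, hap⟩
    by_cases hroot : ∃ y : FractionRing B, y ^ p = algebraMap B (FractionRing B) f
    · obtain ⟨y, hy⟩ := hroot
      obtain ⟨c, d, hd, rfl⟩ := IsFractionRing.div_surjective B y
      have hd0 : (d : B) ≠ 0 := nonZeroDivisors.ne_zero hd
      rw [div_pow, div_eq_iff (pow_ne_zero _ ((map_ne_zero_iff _ (IsFractionRing.injective B _)).mpr hd0)), ← map_pow,
        ← map_pow, ← map_mul] at hy
      have hy' : (c : A) ^ p = a ^ p * (d : A) ^ p := congrArg Subtype.val (IsFractionRing.injective B _ hy)
      have hda : algebraMap B B' d * a' = algebraMap B B' c := Subtype.ext (by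
        show (d : A) * a = c
        refine frobenius_inj A p ?_
        rw [frobenius_def, frobenius_def, mul_pow, hy', mul_comm])
      refine exists_open_regLocus_of_birational B B' hinj' (fun v ↦ ?_) hB
      obtain ⟨q, rfl⟩ := hgen v
      induction q using Polynomial.induction_on' with
      | add q₁ q₂ h₁ h₂ =>
        obtain ⟨u₁, w₁, hw₁, e₁⟩ := h₁; obtain ⟨u₂, w₂, hw₂, e₂⟩ := h₂
        exact ⟨u₁ * w₂ + u₂ * w₁, w₁ * w₂, mul_ne_zero hw₁ hw₂, by
          rw [map_add, map_add, map_mul, map_mul, map_mul, ← e₁, ← e₂]; ring⟩
      | monomial m r => exact ⟨r * c ^ m, d ^ m, pow_ne_zero _ hd0, by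
          rw [Polynomial.aeval_monomial, map_pow, map_mul, map_pow, ← hda, mul_pow]; ring⟩
    · simp only [not_exists] at hroot
      haveI : CharP B p := (RingHom.charP_iff _ (hinjB B) p).mp hR
      obtain ⟨D, hD⟩ := hder p hR B (hfinB B) (hinjB B) f hroot
      exact exists_open_regLocus_of_radical p B B' hinj' a' hgen f (Subtype.ext rfl) hroot D hD hB
  -- adjoining several radicals
  have steps : ∀ (t : Finset A) (B : Subalgebra R A), (∀ a ∈ t, a ^ p ∈ B) → Good B →
      Good (Algebra.adjoin R ((B : Set A) ∪ t)) := by
    intro t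
    induction t using Finset.induction_on with
    | empty => intro B _ hB; simpa [Algebra.adjoin_eq] using hB
    | @insert a t _ ih =>
      intro B hB hgood
      have h1 := ih (Algebra.adjoin R (insert a (B : Set A)))
        (fun b hb ↦ Algebra.subset_adjoin (Set.mem_insert_of_mem a (hB b (Finset.mem_insert_of_mem hb))))
        (step B a (hB a (Finset.mem_insert_self a t)) hgood)
      have heq : Algebra.adjoin R (((Algebra.adjoin R (insert a (B : Set A))) : Set A) ∪ t) =
          Algebra.adjoin R ((B : Set A) ∪ ↑(insert a t)) := by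
        rw [Algebra.adjoin_union, Algebra.adjoin_eq, ← Algebra.adjoin_union, Finset.coe_insert, Set.union_insert,
          Set.insert_union]
      exact heq ▸ h1
  -- the chain
  have chain : ∀ j ≤ E, Good (Algebra.adjoin R (↑(s.image fun a ↦ a ^ p ^ (E - j)) : Set A)) := by
    intro j
    induction j with
    | zero =>
      intro _
      let B := Algebra.adjoin R (↑(s.image fun a ↦ a ^ p ^ (E - 0)) : Set A)
      haveI := hfinB B
      haveI : FaithfulSMul R (FractionRing B) := faithfulSMul_fractionRing R B (hinjB B)
      letI := FractionRing.liftAlgebra R (FractionRing B)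
      let ι : FractionRing B →+* L := IsFractionRing.lift (g := (algebraMap A L).comp B.val.toRingHom)
        ((IsFractionRing.injective A L).comp Subtype.val_injective)
      let ιK : FractionRing B →ₐ[K] L := { ι with
        commutes' := fun x ↦ by
          have hh : ι.comp (algebraMap K (FractionRing B)) = algebraMap K L :=
            IsLocalization.ringHom_ext (nonZeroDivisors R) (RingHom.ext fun r ↦ by
              simp only [RingHom.comp_apply]
              rw [← IsScalarTower.algebraMap_apply R K, ← IsScalarTower.algebraMap_apply R K,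
                IsScalarTower.algebraMap_apply R B, IsFractionRing.lift_algebraMap, IsScalarTower.algebraMap_apply R A L]
              rfl)
          exact RingHom.congr_fun hh x }
      have hB : ∀ b : B, algebraMap A L b ∈ separableClosure K L := fun ⟨b, hb⟩ ↦ by
        refine Algebra.adjoin_le (S := ((separableClosure K L).toSubalgebra.restrictScalars R).comap
          (IsScalarTower.toAlgHom R A L)) ?_ hb
        intro x hx
        obtain ⟨a, ha, rfl⟩ := Finset.mem_image.mp hx
        show algebraMap A L (a ^ p ^ (E - 0)) ∈ separableClosure K L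
        rw [Nat.sub_zero, map_pow]
        exact hE a ha
      refine exists_open_regLocus_of_separable R B (hinjB B) (⟨fun x ↦ ?_⟩ : Algebra.IsSeparable K (FractionRing B))
      refine IsSeparable.of_algHom ιK ?_
      obtain ⟨c, d, -, rfl⟩ := IsFractionRing.div_surjective B x
      have hι : ∀ c : B, ιK (algebraMap B _ c) ∈ separableClosure K L := fun c ↦ by
        show ι _ ∈ _
        rw [IsFractionRing.lift_algebraMap]
        exact hB c
      rw [map_div₀]
      exact mem_separableClosure_iff.mp (div_mem (hι c) (hι d))
    | succ j ih =>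
      intro hj
      have h1 := steps (s.image fun a ↦ a ^ p ^ (E - (j + 1))) _ (fun b hb ↦ by
        obtain ⟨a, ha, rfl⟩ := Finset.mem_image.mp hb
        refine Algebra.subset_adjoin (Finset.mem_image.mpr ⟨a, ha, ?_⟩)
        rw [← pow_mul, ← pow_succ]
        congr 2
        omega) (ih (by omega))
      have heq : Algebra.adjoin R ((↑(Algebra.adjoin R (↑(s.image fun a ↦ a ^ p ^ (E - j)) : Set A)) : Set A) ∪
          ↑(s.image fun a ↦ a ^ p ^ (E - (j + 1)))) =
          Algebra.adjoin R (↑(s.image fun a ↦ a ^ p ^ (E - (j + 1))) : Set A) := by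
        refine le_antisymm (Algebra.adjoin_le (Set.union_subset (Algebra.adjoin_le ?_) Algebra.subset_adjoin))
          (Algebra.adjoin_mono Set.subset_union_right)
        intro b hb
        obtain ⟨a, ha, rfl⟩ := Finset.mem_image.mp hb
        rw [show E - j = E - (j + 1) + 1 by omega, pow_succ, pow_mul]
        exact pow_mem (Algebra.subset_adjoin (Finset.mem_image_of_mem (fun a ↦ a ^ p ^ (E - (j + 1))) ha)) _
      exact heq ▸ h1
  have htop := chain E le_rfl
  have hst : Algebra.adjoin R (↑(s.image fun a ↦ a ^ p ^ (E - E)) : Set A) = ⊤ := by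
    simpa using hs
  obtain ⟨W, hW, hWne, hWreg⟩ := htop
  let ε : Algebra.adjoin R (↑(s.image fun a ↦ a ^ p ^ (E - E)) : Set A) ≃+* A :=
    ((Subalgebra.equivOfEq _ _ hst).trans Subalgebra.topEquiv).toRingEquiv
  letI : Algebra _ A := ε.toRingHom.toAlgebra
  haveI := hnoeB (Algebra.adjoin R (↑(s.image fun a ↦ a ^ p ^ (E - E)) : Set A))
  haveI : Module.Finite (Algebra.adjoin R (↑(s.image fun a ↦ a ^ p ^ (E - E)) : Set A)) A :=
    Module.Finite.of_surjective (Algebra.linearMap _ A) ε.surjective
  exact exists_open_regLocus_of_birational _ A ε.injective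
    (fun v ↦ ⟨ε.symm v, 1, one_ne_zero, by rw [map_one, one_mul]; exact (ε.apply_symm_apply v).symm⟩)
    ⟨W, hW, hWne, hWreg⟩

/-- Domains finite over complete Noetherian local domains are generically regular. -/
theorem exists_open_regLocus_of_finite_complete (A : Type u) [CommRing A] [IsDomain A] [IsLocalRing A]
    [IsNoetherianRing A] [IsAdicComplete (maximalIdeal A) A] (B : Type u) [CommRing B] [IsDomain B] [Algebra A B]
    [Module.Finite A B] (hB : Function.Injective (algebraMap A B)) :
    ∃ W : Set (PrimeSpectrum B), IsOpen W ∧ W.Nonempty ∧ W ⊆ regLocus B := by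
  obtain ⟨Λ, _, n, f, hΛ, hinj, hfin, -⟩ := Groth.Agent.S0581.result A
  obtain ⟨hdom, hreg, hchar⟩ : IsDomain Λ ∧ IsRegularRing Λ ∧ (IsField Λ ∨ CharZero Λ) := by
    rcases hΛ with hF | hC
    · letI := hF.toField
      exact ⟨inferInstance, inferInstance, Or.inl hF⟩
    · have hC' := hC
      obtain ⟨_, _, -, -⟩ := hC'
      obtain ⟨p, -, -, -, hdom, hchar, -⟩ := CohenLib.cohen_props hC
      exact ⟨hdom, inferInstance, Or.inr hchar⟩
  haveI : IsDomain (MvPowerSeries (Fin n) Λ) := NoZeroDivisors.to_isDomain _
  haveI : IsRegularRing (MvPowerSeries (Fin n) Λ) := CommAlgDim.isRegularRing_mvPowerSeries Λ n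
  letI := f.toAlgebra
  haveI : Module.Finite (MvPowerSeries (Fin n) Λ) A := hfin
  letI : Algebra (MvPowerSeries (Fin n) Λ) B := ((algebraMap A B).comp f).toAlgebra
  haveI : IsScalarTower (MvPowerSeries (Fin n) Λ) A B := .of_algebraMap_eq fun _ ↦ rfl
  haveI : Module.Finite (MvPowerSeries (Fin n) Λ) B := Module.Finite.trans A B
  refine exists_open_regLocus_of_derivations (MvPowerSeries (Fin n) Λ) (fun p _ hp U _ _ _ hU hUinj g hg ↦ ?_) B
    (hB.comp hinj)
  haveI hΛp : CharP Λ p := (RingHom.charP_iff _ (MvPowerSeries.C_injective (σ := Fin n) (R := Λ)) p).mpr hp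
  rcases hchar with hF | hchar
  · letI := hF.toField
    exact exists_derivation p Λ n U hUinj g hg
  · exact absurd (CharP.eq Λ (CharP.ofCharZero Λ) hΛp).symm (Fact.out : p.Prime).ne_zero

/-- Complete Noetherian local domains are generically regular. -/
theorem exists_open_regLocus_of_complete (A : Type u) [CommRing A] [IsDomain A] [IsLocalRing A] [IsNoetherianRing A]
    [IsAdicComplete (maximalIdeal A) A] :
    ∃ W : Set (PrimeSpectrum A), IsOpen W ∧ W.Nonempty ∧ W ⊆ regLocus A :=
  exists_open_regLocus_of_finite_complete A A Function.injective_id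

end CplExcLib
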