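import Mathlib.RingTheory.MvPowerSeries.Expand
import Mathlib.RingTheory.MvPowerSeries.NoZeroDivisors
import Mathlib.LinearAlgebra.Dimension.Finite
import Mathlib.LinearAlgebra.FreeModule.Finite.Basic
import Mathlib.LinearAlgebra.Basis.VectorSpace

/-!
# The subrings `F[[x₁ᵖ, …, xₙᵖ]]` of a power series ring
-/

set_option autoImplicit false

universe u

open MvPowerSeries

namespace CplExcLib

variable {k : Type u} [Field k] {n : ℕ} (p : ℕ) (F : Subfield k)

/-- The series supported at exponents divisible by `p`, with coefficients in `F`. -/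
def psSubring : Subring (MvPowerSeries (Fin n) k) where
  carrier := {g | ∀ I, coeff I g ∈ F ∧ (coeff I g ≠ 0 → ∀ i, p ∣ I i)}
  zero_mem' := fun I ↦ by simp
  one_mem' := fun I ↦ by
    classical
    rw [coeff_one]
    split_ifs with h <;> simp [h, F.one_mem]
  add_mem' := fun {a b} ha hb I ↦ by
    rw [map_add]
    refine ⟨F.add_mem (ha I).1 (hb I).1, fun h i ↦ ?_⟩
    by_cases h' : coeff I a = 0
    · exact (hb I).2 (by simpa [h'] using h) i
    · exact (ha I).2 h' i
  neg_mem' := fun {a} ha I ↦ by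
    rw [map_neg]
    exact ⟨F.neg_mem (ha I).1, fun h ↦ (ha I).2 (by simpa using h)⟩
  mul_mem' := fun {a b} ha hb I ↦ by
    classical
    rw [coeff_mul]
    refine ⟨F.sum_mem fun z _ ↦ F.mul_mem (ha _).1 (hb _).1, fun h i ↦ ?_⟩
    obtain ⟨z, hz, hne⟩ := Finset.exists_ne_zero_of_sum_ne_zero h
    obtain ⟨h1, h2⟩ := mul_ne_zero_iff.mp hne
    rw [← Finset.mem_antidiagonal.mp hz, Finsupp.add_apply]
    exact Nat.dvd_add ((ha _).2 h1 i) ((hb _).2 h2 i)

theorem pow_mem_psSubring [Fact p.Prime] [CharP k p] (hF : ∀ x : k, x ^ p ∈ F) (g : MvPowerSeries (Fin n) k) :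
    g ^ p ∈ psSubring p F := fun I ↦ by
  haveI : ExpChar k p := ExpChar.prime (Fact.out : p.Prime)
  rw [← map_frobenius_expand p (Fact.out : p.Prime).ne_zero, coeff_map]
  refine ⟨by rw [frobenius_def]; exact hF _, fun h i ↦ ?_⟩
  by_contra hi
  exact h (by rw [coeff_expand_of_not_dvd p _ _ hi, map_zero])

/-- `F[[xᵖ]]` is relatively closed under division. -/
theorem mem_of_mul_mem {v z : MvPowerSeries (Fin n) k} (hv : v ∈ psSubring p F) (hv0 : v ≠ 0)
    (h : v * z ∈ psSubring p F) : z ∈ psSubring p F := by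
  classical
  obtain ⟨π, hπ⟩ := LinearMap.exists_leftInverse_of_injective (Algebra.linearMap F k)
    (LinearMap.ker_eq_bot.mpr Subtype.val_injective)
  have hπ' : ∀ x : F, π (x : k) = x := fun x ↦ LinearMap.congr_fun hπ x
  let w : MvPowerSeries (Fin n) k := fun I ↦ if ∀ i, p ∣ I i then (π (coeff I z) : k) else 0
  have hwI : ∀ I, coeff I w = if ∀ i, p ∣ I i then (π (coeff I z) : k) else 0 := fun I ↦ rfl
  have hw : w ∈ psSubring p F := fun I ↦ by
    rw [hwI]
    split_ifs with hI
    · exact ⟨(π _).2, fun _ ↦ hI⟩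
    · exact ⟨F.zero_mem, fun h0 ↦ absurd rfl h0⟩
  suffices hvw : v * w = v * z by
    haveI : IsDomain (MvPowerSeries (Fin n) k) := NoZeroDivisors.to_isDomain _
    rwa [← mul_left_cancel₀ hv0 hvw]
  refine MvPowerSeries.ext fun I ↦ ?_
  by_cases hI : ∀ i, p ∣ I i
  · rw [coeff_mul, ← show ((π (coeff I (v * z)) : F) : k) = coeff I (v * z) from
      congrArg Subtype.val (hπ' ⟨_, (h I).1⟩), coeff_mul, map_sum, AddSubmonoidClass.coe_finset_sum]
    refine Finset.sum_congr rfl fun q hq ↦ ?_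
    rw [hwI]
    by_cases h0 : coeff q.1 v = 0
    · simp [h0]
    · have hq2 : ∀ i, p ∣ q.2 i := fun i ↦ by
        have h2 := hI i
        rw [← Finset.mem_antidiagonal.mp hq, Finsupp.add_apply] at h2
        exact (Nat.dvd_add_iff_right ((hv _).2 h0 i)).mpr h2
      rw [if_pos hq2]
      have hsmul : (coeff q.1 v) * (coeff q.2 z) = (⟨_, (hv q.1).1⟩ : F) • (coeff q.2 z) := rfl
      rw [hsmul, map_smul]
      rfl
  · have hz : coeff I (v * z) = 0 := by_contra fun hne ↦ hI ((h I).2 hne)
    have hw' : coeff I (v * w) = 0 := by_contra fun hne ↦ hI ((mul_mem hv hw I).2 hne)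
    rw [hz, hw']

/-- The power series ring is finite over `F[[xᵖ]]` when `k` is finite over `F`. -/
theorem finite_psSubring (hp : 0 < p) [Module.Finite F k] :
    Module.Finite (psSubring (n := n) p F) (MvPowerSeries (Fin n) k) := by
  classical
  let b := Module.finBasis F k
  let m := Module.finrank F k
  let a' : (Fin n → Fin p) → (Fin n →₀ ℕ) := fun a ↦ Finsupp.equivFunOnFinite.symm fun i ↦ (a i : ℕ)
  refine ⟨⟨Finset.univ.image fun x : Fin m × (Fin n → Fin p) ↦ monomial (a' x.2) (b x.1), eq_top_iff.mpr fun g _ ↦ ?_⟩⟩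
  let c : Fin m × (Fin n → Fin p) → psSubring (n := n) p F := fun x ↦
    ⟨(fun I ↦ if ∀ i, p ∣ I i then (b.repr (coeff (I + a' x.2) g) x.1 : k) else 0 : MvPowerSeries (Fin n) k),
      fun I ↦ by
        rw [show ∀ φ : (Fin n →₀ ℕ) → k, coeff I (φ : MvPowerSeries (Fin n) k) = φ I from fun _ ↦ rfl]
        split_ifs with hI
        · exact ⟨(b.repr _ _).2, fun _ ↦ hI⟩
        · exact ⟨F.zero_mem, fun h0 ↦ absurd rfl h0⟩⟩
  have hc : ∀ x I, coeff I (c x : MvPowerSeries (Fin n) k) =
      if ∀ i, p ∣ I i then (b.repr (coeff (I + a' x.2) g) x.1 : k) else 0 := fun _ _ ↦ rfl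
  have hg : g = ∑ x : Fin m × (Fin n → Fin p), c x • monomial (a' x.2) (b x.1) := by
    refine MvPowerSeries.ext fun J ↦ ?_
    let a₀ : Fin n → Fin p := fun i ↦ ⟨J i % p, Nat.mod_lt _ hp⟩
    have ha₀ : a' a₀ ≤ J := fun i ↦ Nat.mod_le _ _
    have hdvd : ∀ i, p ∣ (J - a' a₀) i := fun i ↦ by
      rw [Finsupp.tsub_apply]
      exact Nat.dvd_sub_mod (J i)
    rw [map_sum, Fintype.sum_prod_type]
    have hinner : ∀ j, ∑ a, coeff J (c (j, a) • monomial (a' a) (b j)) =
        (b.repr (coeff J g) j : k) * b j := fun j ↦ by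
      rw [Finset.sum_eq_single a₀]
      · rw [Subring.smul_def, smul_eq_mul, mul_comm, coeff_monomial_mul, if_pos ha₀, hc, if_pos hdvd,
          tsub_add_cancel_of_le ha₀, mul_comm]
      · intro a _ hne
        rw [Subring.smul_def, smul_eq_mul, mul_comm, coeff_monomial_mul]
        split_ifs with hle
        · rw [hc, if_neg, mul_zero]
          intro hd
          refine hne (funext fun i ↦ Fin.ext ?_)
          obtain ⟨t, ht⟩ := hd i
          have hi : (a i : ℕ) ≤ J i := hle i
          rw [Finsupp.tsub_apply] at ht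
          show (a i : ℕ) = J i % p
          have hJ : J i = a i + p * t := by
            have : a' a i = a i := rfl
            omega
          rw [hJ, Nat.add_mul_mod_self_left, Nat.mod_eq_of_lt (a i).2]
        · rfl
      · simp
    rw [Finset.sum_congr rfl fun j _ ↦ hinner j]
    conv_lhs => rw [← b.sum_repr (coeff J g)]
    rfl
  rw [hg]
  exact Submodule.sum_mem _ fun x _ ↦ Submodule.smul_mem _ _
    (Submodule.subset_span (Finset.mem_image_of_mem _ (Finset.mem_univ x)))

end CplExcLib
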