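import Groth.Agent.CplExcLib.SubfieldFamily
import Groth.Agent.CplExcLib.PSSubring
import Mathlib.RingTheory.Localization.Integer
import Mathlib.RingTheory.Localization.Algebra
import Mathlib.RingTheory.Localization.FractionRing
import Mathlib.RingTheory.Derivation.Basic

/-!
# Derivations of domains finite over a power series ring in characteristic `p`
-/

set_option autoImplicit false
set_option maxHeartbeats 800000

universe u

open MvPowerSeries Groth.Agent

namespace CplExcLib

/-- A finite family independent over the intersection of a directed family of subfields is independent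
over one of them. -/
theorem exists_indep {K L α ι : Type*} [Field K] [Field L] [Algebra K L] [Nonempty α] (F : α → Subfield K)
    (hdir : ∀ a b, ∃ c, F c ≤ F a ∧ F c ≤ F b) (F₀ : Set K) (hF₀ : ∀ x, (∀ a, x ∈ F a) → x ∈ F₀)
    (h0 : (0 : K) ∈ F₀) (h1 : (1 : K) ∈ F₀) (hneg : ∀ x ∈ F₀, -x ∈ F₀) (v : ι → L) (s : Finset ι)
    (hv : ∀ c : ι → K, (∀ i ∈ s, c i ∈ F₀) → ∑ i ∈ s, c i • v i = 0 → ∀ i ∈ s, c i = 0) :
    ∃ a, ∀ c : ι → K, (∀ i ∈ s, c i ∈ F a) → ∑ i ∈ s, c i • v i = 0 → ∀ i ∈ s, c i = 0 := by
  classical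
  induction s using Finset.induction_on with
  | empty => exact ⟨Classical.arbitrary α, fun c _ _ i hi ↦ absurd hi (Finset.notMem_empty i)⟩
  | @insert j s hj ih =>
    obtain ⟨a₀, ha₀⟩ := ih fun c hc hsum i hi ↦ by
      have h := hv (Function.update c j 0) (fun i hi' ↦ by
        by_cases hij : i = j
        · subst hij; rwa [Function.update_self]
        · rw [Function.update_of_ne hij]; exact hc i ((Finset.mem_insert.mp hi').resolve_left hij)) (by
          rw [Finset.sum_insert hj, Function.update_self, zero_smul, zero_add, ← hsum]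
          refine Finset.sum_congr rfl fun i hi ↦ ?_
          rw [Function.update_of_ne fun h : i = j ↦ hj (h ▸ hi)]) i (Finset.mem_insert_of_mem hi)
      rwa [Function.update_of_ne fun h : i = j ↦ hj (h ▸ hi)] at h
    by_contra hcon
    push Not at hcon
    -- for every `a` below `a₀` the vector `v j` is a combination of the others over `F a`
    have key : ∀ a, F a ≤ F a₀ → ∃ d : ι → K, (∀ i ∈ s, d i ∈ F a) ∧ ∑ i ∈ s, d i • v i = v j := by
      intro a ha
      obtain ⟨c, hc, hsum, i, hi, hne⟩ := hcon a
      have hcj : c j ≠ 0 := fun hz ↦ by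
        rw [Finset.sum_insert hj, hz, zero_smul, zero_add] at hsum
        rcases Finset.mem_insert.mp hi with rfl | hi
        · exact hne hz
        · exact hne (ha₀ c (fun i hi ↦ ha (hc i (Finset.mem_insert_of_mem hi))) hsum i hi)
      refine ⟨fun i ↦ -(c i / c j), fun i hi ↦ (F a).neg_mem
        ((F a).div_mem (hc i (Finset.mem_insert_of_mem hi)) (hc j (Finset.mem_insert_self j s))), ?_⟩
      rw [Finset.sum_insert hj, add_eq_zero_iff_eq_neg] at hsum
      calc ∑ i ∈ s, -(c i / c j) • v i = -((c j)⁻¹ • ∑ i ∈ s, c i • v i) := by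
            rw [Finset.smul_sum, ← Finset.sum_neg_distrib]
            refine Finset.sum_congr rfl fun i _ ↦ ?_
            rw [smul_smul, neg_smul, div_eq_inv_mul]
        _ = v j := by rw [← smul_neg, ← hsum, smul_smul, inv_mul_cancel₀ hcj, one_smul]
    obtain ⟨d, hd, hdsum⟩ := key a₀ le_rfl
    have hd₀ : ∀ i ∈ s, d i ∈ F₀ := fun i hi ↦ hF₀ _ fun a ↦ by
      obtain ⟨b, hba, hba₀⟩ := hdir a a₀
      obtain ⟨e, he, hesum⟩ := key b hba₀
      have := ha₀ (fun i ↦ d i - e i) (fun i hi ↦ (F a₀).sub_mem (hd i hi) (hba₀ (he i hi)))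
        (by simp only [sub_smul, Finset.sum_sub_distrib, hdsum, hesum, sub_self]) i hi
      rw [sub_eq_zero.mp this]
      exact hba (he i hi)
    have := hv (Function.update (fun i ↦ -d i) j 1) (fun i hi ↦ by
      by_cases hij : i = j
      · subst hij; rwa [Function.update_self]
      · rw [Function.update_of_ne hij]; exact hneg _ (hd₀ i ((Finset.mem_insert.mp hi).resolve_left hij))) (by
        rw [Finset.sum_insert hj, Function.update_self, one_smul, ← hdsum, ← Finset.sum_add_distrib]
        refine Finset.sum_eq_zero fun i hi ↦ ?_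
        rw [Function.update_of_ne fun h : i = j ↦ hj (h ▸ hi), neg_smul, add_neg_cancel]) j
        (Finset.mem_insert_self j s)
    rw [Function.update_self] at this
    exact one_ne_zero this

/-- A non `p`-th power in a domain finite over a power series ring over a field of characteristic `p` is
moved by a derivation of that domain. -/
theorem exists_derivation (p : ℕ) [Fact p.Prime] (k : Type u) [Field k] [CharP k p] (n : ℕ) (U : Type u) [CommRing U]
    [IsDomain U] [Algebra (MvPowerSeries (Fin n) k) U] [Module.Finite (MvPowerSeries (Fin n) k) U]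
    (hinj : Function.Injective (algebraMap (MvPowerSeries (Fin n) k) U)) (f : U)
    (hf : ∀ y : FractionRing U, y ^ p ≠ algebraMap U (FractionRing U) f) :
    ∃ D : Derivation ℤ U U, D f ≠ 0 := by
  classical
  let R := MvPowerSeries (Fin n) k
  haveI : IsDomain R := NoZeroDivisors.to_isDomain _
  let K := FractionRing R
  let L := FractionRing U
  haveI : FaithfulSMul R U := (faithfulSMul_iff_algebraMap_injective R U).mpr hinj
  haveI : FaithfulSMul R L := (faithfulSMul_iff_algebraMap_injective R L).mpr (by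
    rw [IsScalarTower.algebraMap_eq R U L]; exact (IsFractionRing.injective U L).comp hinj)
  letI : Algebra K L := FractionRing.liftAlgebra R L
  haveI : FiniteDimensional K L := by
    obtain ⟨s, hs⟩ := (inferInstance : Module.Finite R U).fg_top
    let E := Algebra.adjoin K (algebraMap U L '' (s : Set U))
    have hint : ∀ x ∈ algebraMap U L '' (s : Set U), IsIntegral K x := by
      rintro _ ⟨u, -, rfl⟩
      exact ((Algebra.IsIntegral.isIntegral (R := R) u).map (IsScalarTower.toAlgHom R U L)).tower_top
    haveI : FiniteDimensional K E := ⟨(Submodule.fg_top _).mpr (fg_adjoin_of_finite (s.finite_toSet.image _) hint)⟩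
    have hU : ∀ u : U, algebraMap U L u ∈ E := fun u ↦ by
      have : u ∈ Submodule.span R (s : Set U) := hs ▸ Submodule.mem_top
      induction this using Submodule.span_induction with
      | mem x hx => exact Algebra.subset_adjoin ⟨x, hx, rfl⟩
      | zero => rw [map_zero]; exact zero_mem _
      | add x y _ _ hx hy => rw [map_add]; exact add_mem hx hy
      | smul r x _ hx =>
        rw [Algebra.smul_def, map_mul, ← IsScalarTower.algebraMap_apply, IsScalarTower.algebraMap_apply R K L]
        exact mul_mem (Subalgebra.algebraMap_mem _ _) hx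
    have htop : E = ⊤ := eq_top_iff.mpr fun x _ ↦ by
      obtain ⟨a, b, -, rfl⟩ := IsFractionRing.div_surjective U x
      rw [div_eq_mul_inv]
      exact mul_mem (hU a) (Subalgebra.inv_mem_of_algebraic E (x := ⟨_, hU b⟩)
        ((Algebra.IsIntegral.isIntegral (R := R) b).map (IsScalarTower.toAlgHom R U L)).tower_top.isAlgebraic)
    exact ⟨by rw [← Algebra.top_toSubmodule, ← htop]; exact fg_adjoin_of_finite (s.finite_toSet.image _) hint⟩
  haveI : CharP R p := charP_of_injective_ringHom (MvPowerSeries.C (σ := Fin n) (R := k)).injective p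
  haveI : CharP K p := charP_of_injective_ringHom (IsFractionRing.injective R K) p
  haveI : CharP L p := charP_of_injective_ringHom (algebraMap K L).injective p
  obtain ⟨F, hmono, hpow, hfin, hinter⟩ := exists_subfield_family p k
  let RS := fun S ↦ psSubring (n := n) p (F S)
  let KS := fun S ↦ Subfield.closure (algebraMap R K '' (RS S : Set R))
  have hmem : ∀ S (x : K), x ∈ KS S → ∃ a ∈ RS S, ∃ b ∈ RS S, algebraMap R K a / algebraMap R K b = x := by
    intro S x hx
    obtain ⟨y, hy, z, hz, rfl⟩ := Subfield.mem_closure_iff.mp hx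
    have hcl : Subring.closure (algebraMap R K '' (RS S : Set R)) = (RS S).map (algebraMap R K) := by
      rw [← RingHom.map_closure, Subring.closure_eq]
    rw [hcl] at hy hz
    obtain ⟨a, ha, rfl⟩ := hy
    obtain ⟨b, hb, rfl⟩ := hz
    exact ⟨a, ha, b, hb, rfl⟩
  have hKSpow : ∀ S (x : K), x ^ p ∈ KS S := fun S x ↦ by
    obtain ⟨a, b, -, rfl⟩ := IsFractionRing.div_surjective R x
    rw [div_pow, ← map_pow, ← map_pow]
    exact (KS S).div_mem (Subfield.subset_closure ⟨_, pow_mem_psSubring p (F S) (hpow S) a, rfl⟩)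
      (Subfield.subset_closure ⟨_, pow_mem_psSubring p (F S) (hpow S) b, rfl⟩)
  have hKSinter : ∀ x : K, (∀ S, x ∈ KS S) → x ∈ Set.range fun y : K ↦ y ^ p := by
    intro x hx
    obtain ⟨a, b, hb, rfl⟩ := IsFractionRing.div_surjective R x
    have hb0 : b ≠ 0 := nonZeroDivisors.ne_zero hb
    have hb' : algebraMap R K b ≠ 0 := (map_ne_zero_iff _ (IsFractionRing.injective R K)).mpr hb0
    have hp1 : p = (p - 1) + 1 := by have := (Fact.out : p.Prime).pos; omega
    have hg : ∀ S, a * b ^ (p - 1) ∈ RS S := fun S ↦ by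
      obtain ⟨u, hu, v, hv, huv⟩ := hmem S _ (hx S)
      by_cases hv0 : algebraMap R K v = 0
      · rw [hv0, div_zero, eq_comm, div_eq_zero_iff, or_iff_left hb', map_eq_zero_iff _ (IsFractionRing.injective R K)] at huv
        rw [huv, zero_mul]
        exact zero_mem _
      · refine mem_of_mul_mem p (F S) hv (fun h ↦ hv0 (by rw [h, map_zero])) ?_
        rw [div_eq_div_iff hv0 hb', ← map_mul, ← map_mul] at huv
        have hE : v * (a * b ^ (p - 1)) = u * b ^ p := by
          have h := IsFractionRing.injective R K huv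
          calc v * (a * b ^ (p - 1)) = (a * v) * b ^ (p - 1) := by ring
            _ = (u * b) * b ^ (p - 1) := by rw [h]
            _ = u * b ^ ((p - 1) + 1) := by ring
            _ = u * b ^ p := by rw [← hp1]
        rw [hE]
        exact mul_mem hu (pow_mem_psSubring p (F S) (hpow S) b)
    have hroot : ∀ I : Fin n →₀ ℕ, ∃ y : k, y ^ p = coeff (p • I) (a * b ^ (p - 1)) :=
      fun I ↦ hinter _ fun S ↦ (hg S (p • I)).1
    choose y hy using hroot
    haveI : ExpChar k p := ExpChar.prime (Fact.out : p.Prime)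
    let r : R := (fun I ↦ y I)
    have hr : r ^ p = a * b ^ (p - 1) := MvPowerSeries.ext fun J ↦ by
      rw [← map_frobenius_expand p (Fact.out : p.Prime).ne_zero, coeff_map]
      by_cases hJ : ∀ i, p ∣ J i
      · obtain ⟨I, rfl⟩ : ∃ I : Fin n →₀ ℕ, p • I = J :=
          ⟨J.mapRange (· / p) (Nat.zero_div p), Finsupp.ext fun i ↦ by
            rw [Finsupp.smul_apply, Finsupp.mapRange_apply, smul_eq_mul, Nat.mul_div_cancel' (hJ i)]⟩
        rw [coeff_expand_smul, frobenius_def]
        exact hy I
      · obtain ⟨i, hi⟩ := not_forall.mp hJ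
        rw [coeff_expand_of_not_dvd p _ _ hi, map_zero]
        by_contra hne
        exact hi ((hg ∅ J).2 (Ne.symm hne) i)
    refine ⟨algebraMap R K r / algebraMap R K b, ?_⟩
    show (_ / _) ^ p = _
    rw [div_pow, ← map_pow, hr, map_mul, map_pow, div_eq_div_iff (pow_ne_zero _ hb') hb', mul_assoc, ← pow_succ, ← hp1]
  let bL := Module.finBasis K L
  let v : Option (Fin (Module.finrank K L)) → L := fun o ↦ o.elim (algebraMap U L f) fun i ↦ bL i ^ p
  obtain ⟨S, hS⟩ := exists_indep KS (fun S S' ↦ ⟨S ∪ S', by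
      constructor <;> refine Subfield.closure_mono (Set.image_mono fun g hg I ↦ ⟨hmono _ _ ?_ (hg I).1, (hg I).2⟩)
      exacts [Finset.subset_union_left, Finset.subset_union_right]⟩)
    (Set.range fun y : K ↦ y ^ p) hKSinter ⟨0, zero_pow (Fact.out : p.Prime).ne_zero⟩ ⟨1, one_pow p⟩
    (by
      rintro _ ⟨y, rfl⟩
      exact ⟨-y, by
        show (-y) ^ p = -(y ^ p)
        rw [neg_pow, neg_one_pow_expChar K p, neg_one_mul]⟩)
    v Finset.univ (fun c hc hsum ↦ by
      choose e he using fun o ↦ hc o (Finset.mem_univ o)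
      simp only at he
      haveI : ExpChar L p := ExpChar.prime (Fact.out : p.Prime)
      rw [Fintype.sum_option] at hsum
      simp only [v, Option.elim, ← he] at hsum
      have hsum' : algebraMap K L (e none) ^ p * algebraMap U L f +
          (∑ i, e (some i) • bL i) ^ p = 0 := by
        rw [sum_pow_char p, ← hsum, Algebra.smul_def, map_pow]
        congr 1
        exact Finset.sum_congr rfl fun i _ ↦ by rw [Algebra.smul_def, Algebra.smul_def, mul_pow, map_pow]
      have hnone : e none = 0 := by
        by_contra h0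
        have h0' : algebraMap K L (e none) ≠ 0 := (map_ne_zero _).mpr h0
        refine hf ((-∑ i, e (some i) • bL i) / algebraMap K L (e none)) ?_
        rw [div_pow, div_eq_iff (pow_ne_zero _ h0'), neg_pow, neg_one_pow_expChar L p, neg_one_mul,
          neg_eq_iff_add_eq_zero, mul_comm, add_comm]
        exact hsum'
      rw [hnone, map_zero, zero_pow (Fact.out : p.Prime).ne_zero, zero_mul, zero_add,
        pow_eq_zero_iff (Fact.out : p.Prime).ne_zero] at hsum'
      rintro (_ | i) -
      · rw [← he, hnone, zero_pow (Fact.out : p.Prime).ne_zero]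
      · rw [← he, Fintype.linearIndependent_iff.mp bL.linearIndependent _ hsum' i,
          zero_pow (Fact.out : p.Prime).ne_zero])
  -- the span of the `p`-th powers of a basis over `KS S`
  let W : Set L := {x | ∃ c : Fin (Module.finrank K L) → K, (∀ i, c i ∈ KS S) ∧ ∑ i, c i • bL i ^ p = x}
  haveI : ExpChar L p := ExpChar.prime (Fact.out : p.Prime)
  have hWpow : ∀ x : L, x ^ p ∈ W := fun x ↦ ⟨fun i ↦ bL.repr x i ^ p, fun i ↦ hKSpow S _, by
    conv_rhs => rw [← bL.sum_repr x, sum_pow_char p]
    exact Finset.sum_congr rfl fun i _ ↦ by rw [Algebra.smul_def, Algebra.smul_def, mul_pow, map_pow]⟩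
  have hWadd : ∀ x ∈ W, ∀ y ∈ W, x + y ∈ W := by
    rintro _ ⟨c, hc, rfl⟩ _ ⟨d, hd, rfl⟩
    exact ⟨fun i ↦ c i + d i, fun i ↦ (KS S).add_mem (hc i) (hd i),
      by simp only [add_smul, Finset.sum_add_distrib]⟩
  have hWsmul : ∀ a ∈ KS S, ∀ x ∈ W, algebraMap K L a * x ∈ W := by
    rintro a ha _ ⟨c, hc, rfl⟩
    refine ⟨fun i ↦ a * c i, fun i ↦ (KS S).mul_mem ha (hc i), ?_⟩
    rw [Finset.mul_sum]
    exact Finset.sum_congr rfl fun i _ ↦ by rw [← Algebra.smul_def, smul_smul]
  have hW0 : (0 : L) ∈ W := ⟨0, fun _ ↦ (KS S).zero_mem, by simp⟩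
  have hWsum : ∀ (t : Finset (Fin (Module.finrank K L))) (g : Fin (Module.finrank K L) → L),
      (∀ i ∈ t, g i ∈ W) → ∑ i ∈ t, g i ∈ W := fun t g hg ↦
    Finset.sum_induction g (· ∈ W) (fun a b ha hb ↦ hWadd a ha b hb) hW0 hg
  have hWmul : ∀ x ∈ W, ∀ y ∈ W, x * y ∈ W := by
    rintro _ ⟨c, hc, rfl⟩ _ ⟨d, hd, rfl⟩
    rw [Finset.sum_mul]
    refine hWsum _ _ fun i _ ↦ ?_
    rw [Finset.mul_sum]
    refine hWsum _ _ fun j _ ↦ ?_
    rw [Algebra.smul_def, Algebra.smul_def, mul_mul_mul_comm, ← map_mul, ← mul_pow]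
    exact hWsmul _ ((KS S).mul_mem (hc i) (hd j)) _ (hWpow _)
  haveI : Module.Finite (RS S) R := by
    haveI := hfin S
    exact finite_psSubring p (F S) (Fact.out : p.Prime).pos
  haveI : Module.Finite (RS S) U := Module.Finite.trans R U
  have hfW : algebraMap U L f ∉ Algebra.adjoin (EGA41.pPowerSubalgebra p (RS S) L) (∅ : Set L) := by
    intro hmemf
    have hP : ∀ x ∈ EGA41.pPowerSubalgebra p (RS S) L, x ∈ W := fun x hx ↦ by
      induction hx using Algebra.adjoin_induction with
      | mem _ h => obtain ⟨b, rfl⟩ := h; exact hWpow b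
      | algebraMap a =>
        have h := hWsmul (algebraMap R K a) (Subfield.subset_closure ⟨a, a.2, rfl⟩) _ (hWpow 1)
        rwa [one_pow, mul_one, ← IsScalarTower.algebraMap_apply] at h
      | add _ _ _ _ ha hb => exact hWadd _ ha _ hb
      | mul _ _ _ _ ha hb => exact hWmul _ ha _ hb
    rw [Algebra.adjoin_empty, Algebra.mem_bot] at hmemf
    obtain ⟨⟨x, hx⟩, hxf⟩ := hmemf
    obtain ⟨c, hc, hcsum⟩ := hP x hx
    have := hS (fun o ↦ o.elim (-1) c) (by
      rintro (_ | i) -
      · exact (KS S).neg_mem (KS S).one_mem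
      · exact hc i) (by
      rw [Fintype.sum_option]
      simp only [v, Option.elim, hcsum, neg_smul, one_smul]
      rw [← hxf]
      exact neg_add_cancel _) none (Finset.mem_univ _)
    simp at this
  have hind : PBasisLib.SetIndep (A := RS S) p ({algebraMap U L f} : Set L) := by
    have h := PBasisLib.setIndep_insert (A := RS S) p (PBasisLib.setIndep_empty (A := RS S) (K := L) p) hfW
    rwa [insert_empty_eq] at h
  obtain ⟨T, hfT, -, hT⟩ := PBasisLib.exists_pBasis_between (A := RS S) (K := L) p Set.univ _ (Set.subset_univ _)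
    (PBasisLib.isPGenerating_univ (A := RS S) (K := L) p) hind
  obtain ⟨D, hD⟩ := PBasisLib.exists_derivation_base (A := RS S) (L := L) p hT fun _ ↦ 1
  have hDf : D (algebraMap U L f) = 1 := hD ⟨_, hfT rfl⟩
  -- clear denominators
  obtain ⟨s, hs⟩ := (inferInstance : Module.Finite (RS S) U).fg_top
  obtain ⟨⟨c, hc⟩, hcD⟩ := IsLocalization.exist_integer_multiples (nonZeroDivisors U) s fun u ↦ D (algebraMap U L u)
  have hint : ∀ u : U, ∃ w : U, algebraMap U L w = algebraMap U L c * D (algebraMap U L u) := fun u ↦ by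
    have : u ∈ Submodule.span (RS S) (s : Set U) := hs ▸ Submodule.mem_top
    induction this using Submodule.span_induction with
    | mem x hx =>
      obtain ⟨w, hw⟩ := hcD x hx
      exact ⟨w, hw.trans (Algebra.smul_def c _)⟩
    | zero => exact ⟨0, by simp⟩
    | add x y _ _ hx hy =>
      obtain ⟨a, ha⟩ := hx; obtain ⟨b, hb⟩ := hy
      exact ⟨a + b, by rw [map_add, map_add, map_add, mul_add, ha, hb]⟩
    | smul r x _ hx =>
      obtain ⟨a, ha⟩ := hx
      exact ⟨algebraMap (RS S) U r * a, by
        rw [Algebra.smul_def r x, map_mul, map_mul, ha, ← IsScalarTower.algebraMap_apply, Derivation.leibniz,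
          Derivation.map_algebraMap, smul_zero, add_zero, smul_eq_mul]
        ring⟩
  choose w hw using hint
  have hinjU := IsFractionRing.injective U L
  let Dl : U →+ U :=
    { toFun := w
      map_zero' := hinjU (by rw [hw]; simp)
      map_add' := fun a b ↦ hinjU (by rw [map_add, hw, hw, hw, map_add, map_add, mul_add]) }
  refine ⟨Derivation.mk' Dl.toIntLinearMap fun a b ↦ hinjU ?_, fun h ↦ ?_⟩
  · show algebraMap U L (w (a * b)) = algebraMap U L (a • w b + b • w a)
    simp only [hw, map_mul, map_add, Derivation.leibniz, smul_eq_mul]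
    ring
  · have h' : algebraMap U L (w f) = 0 := by
      rw [show w f = 0 from h, map_zero]
    rw [hw, hDf, mul_one, map_eq_zero_iff _ hinjU] at h'
    exact nonZeroDivisors.ne_zero hc h'

end CplExcLib
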