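import Groth.Prelude.Def_EGA41
import Groth.Agent.PBasisLib.Fields
import Mathlib.RingTheory.IntegralClosure.IsIntegral.Basic

/-!
# A directed family of subfields of finite index with intersection the `p`-th powers
-/

set_option autoImplicit false

universe u

open EGA41 Groth.Agent

namespace CplExcLib

variable (p : ℕ) [Fact p.Prime] (k : Type u) [Field k] [CharP k p]

/-- Elements of `⊥[k^p]` are `p`-th powers. -/
theorem exists_pow_of_mem_pPow {x : k} (hx : x ∈ pPowerSubalgebra p (⊥ : Subring k) k) : ∃ y, y ^ p = x := by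
  haveI : ExpChar k p := ExpChar.prime (Fact.out : p.Prime)
  suffices h : x ∈ (frobenius k p).range by
    obtain ⟨y, hy⟩ := h
    exact ⟨y, hy⟩
  induction hx using Algebra.adjoin_induction with
  | mem _ h => obtain ⟨b, rfl⟩ := h; exact ⟨b, rfl⟩
  | algebraMap a => exact (bot_le : (⊥ : Subring k) ≤ (frobenius k p).range) a.2
  | add _ _ _ _ ha hb => exact add_mem ha hb
  | mul _ _ _ _ ha hb => exact mul_mem ha hb

/-- A family of subfields of finite index, directed downwards, whose intersection is the field of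
`p`-th powers. -/
theorem exists_subfield_family :
    ∃ F : Finset k → Subfield k, (∀ S S', S ⊆ S' → F S' ≤ F S) ∧ (∀ S (x : k), x ^ p ∈ F S) ∧
      (∀ S, Module.Finite (F S) k) ∧ ∀ x : k, (∀ S, x ∈ F S) → ∃ y, y ^ p = x := by
  classical
  let A := (⊥ : Subring k)
  let P := pPowerSubalgebra p A k
  obtain ⟨T, -, -, hT⟩ := PBasisLib.exists_pBasis_between (A := A) (K := k) p Set.univ ∅ (Set.empty_subset _)
    (PBasisLib.isPGenerating_univ (K := k) p) (PBasisLib.setIndep_empty (K := k) p)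
  let C := fun S : Finset k ↦ Algebra.adjoin P (T \ (S : Set k))
  refine ⟨fun S ↦ PBasisLib.toSubfield p (C S), fun S S' h ↦ ?_, fun S x ↦ ?_, fun S ↦ ?_, fun x hx ↦ ?_⟩
  · intro x hx
    exact Algebra.adjoin_mono (Set.sdiff_subset_sdiff_right (Finset.coe_subset.mpr h)) hx
  · exact (C S).algebraMap_mem ⟨_, PBasisLib.pow_mem_pPow p x⟩
  · let F := PBasisLib.toSubfield p (C S)
    have hpow : ∀ y : k, y ^ p ∈ F := fun y ↦ (C S).algebraMap_mem ⟨_, PBasisLib.pow_mem_pPow p y⟩
    have htop : (Algebra.adjoin F (S : Set k)) = ⊤ := by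
      refine eq_top_iff.mpr fun y hy0 ↦ ?_
      clear hy0
      have hy : y ∈ Algebra.adjoin P (Set.range (Subtype.val : T → k)) := by
        rw [(PBasisLib.isPGenerating_iff p _).mp hT.2]; trivial
      induction hy using Algebra.adjoin_induction with
      | mem z h =>
        obtain ⟨⟨z, hz⟩, rfl⟩ := h
        by_cases hzS : z ∈ S
        · exact Algebra.subset_adjoin hzS
        · exact Subalgebra.algebraMap_mem _ (⟨z, Algebra.subset_adjoin ⟨hz, hzS⟩⟩ : F)
      | algebraMap a => exact Subalgebra.algebraMap_mem _ (⟨(a : k), (C S).algebraMap_mem a⟩ : F)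
      | add _ _ _ _ ha hb => exact add_mem ha hb
      | mul _ _ _ _ ha hb => exact mul_mem ha hb
    refine ⟨?_⟩
    have h := fg_adjoin_of_finite (R := F) S.finite_toSet fun y _ ↦
      (⟨Polynomial.X ^ p - Polynomial.C (⟨y ^ p, hpow y⟩ : F),
        Polynomial.monic_X_pow_sub_C _ (Fact.out : p.Prime).ne_zero, by simp; exact sub_self _⟩ : IsIntegral F y)
    rw [htop, Algebra.top_toSubmodule] at h
    exact h
  · let v : {e : T →₀ ℕ // ∀ i, e i < p} → k := fun e ↦ pMonomial (Subtype.val : T → k) e.1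
    obtain ⟨S, hS, hxS⟩ : ∃ S : Finset k, (S : Set k) ⊆ T ∧ x ∈ Algebra.adjoin P (S : Set k) := by
      have hx' : x ∈ Algebra.adjoin P T := by
        rw [← Subtype.range_coe (s := T), (PBasisLib.isPGenerating_iff p _).mp hT.2]; trivial
      clear hx
      induction hx' using Algebra.adjoin_induction with
      | mem z h => exact ⟨{z}, by simpa using h, Algebra.subset_adjoin (by simp)⟩
      | algebraMap a => exact ⟨∅, by simp, Subalgebra.algebraMap_mem _ a⟩
      | add a b _ _ ha hb =>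
        obtain ⟨S₁, h₁, h₁'⟩ := ha; obtain ⟨S₂, h₂, h₂'⟩ := hb
        exact ⟨S₁ ∪ S₂, by simp [h₁, h₂], add_mem
          (Algebra.adjoin_mono (by simp) h₁') (Algebra.adjoin_mono (by simp) h₂')⟩
      | mul a b _ _ ha hb =>
        obtain ⟨S₁, h₁, h₁'⟩ := ha; obtain ⟨S₂, h₂, h₂'⟩ := hb
        exact ⟨S₁ ∪ S₂, by simp [h₁, h₂], mul_mem
          (Algebra.adjoin_mono (by simp) h₁') (Algebra.adjoin_mono (by simp) h₂')⟩
    have hspan : ∀ (T' : Set k), T' ⊆ T → ∀ y ∈ Algebra.adjoin P T',
        y ∈ Submodule.span P (v '' {e | ∀ i : T, e.1 i ≠ 0 → (i : k) ∈ T'}) := by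
      intro T' hT' y hy
      let inc : T' → T := fun t ↦ ⟨t.1, hT' t.2⟩
      have hinc : Function.Injective inc := fun a b h ↦ Subtype.ext (congrArg (fun t : T ↦ (t : k)) h)
      have h := (PBasisLib.span_eq_adjoin (A := A) p (Subtype.val : T' → k)).ge
        (show y ∈ (Algebra.adjoin P (Set.range (Subtype.val : T' → k))).toSubmodule by
          rw [Subtype.range_coe]; exact hy)
      refine Submodule.span_mono ?_ h
      rintro _ ⟨e, rfl⟩
      refine ⟨⟨Finsupp.mapDomain inc e.1, fun i ↦ ?_⟩, fun i hi ↦ ?_, ?_⟩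
      · by_cases hi : i ∈ Set.range inc
        · obtain ⟨j, rfl⟩ := hi
          rw [Finsupp.mapDomain_apply hinc]
          exact e.2 j
        · rw [Finsupp.mapDomain_of_notMem_range _ _ hi]
          exact (Fact.out : p.Prime).pos
      · by_contra hmem
        exact hi (Finsupp.mapDomain_of_notMem_range _ _ fun ⟨j, hj⟩ ↦ hmem (hj ▸ j.2))
      · show pMonomial _ (Finsupp.mapDomain inc e.1) = pMonomial _ e.1
        rw [pMonomial, pMonomial, Finsupp.prod_mapDomain_index_inj hinc]
    let z : {e : T →₀ ℕ // ∀ i, e i < p} := ⟨0, fun _ ↦ (Fact.out : p.Prime).pos⟩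
    have h1 : x ∈ Submodule.span P (v '' (insert z ({e | ∀ i : T, e.1 i ≠ 0 → (i : k) ∈ S} \ {z}))) :=
      Submodule.span_mono (Set.image_mono (Set.subset_insert_sdiff_singleton _ _))
        (hspan S hS x hxS)
    rw [Set.image_insert_eq, Submodule.mem_span_insert] at h1
    obtain ⟨c, r, hr, hxr⟩ := h1
    have h2 : r ∈ Submodule.span P (v '' {e | ∀ i : T, e.1 i ≠ 0 → (i : k) ∈ T \ (S : Set k)}) := by
      rw [show r = x - c • v z from eq_sub_of_add_eq' hxr.symm]
      exact Submodule.sub_mem _ (hspan _ Set.sdiff_subset x (hx S))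
        (Submodule.smul_mem _ _ (Submodule.subset_span ⟨z, fun i hi ↦ absurd rfl hi, rfl⟩))
    have hdis : Disjoint ({e | ∀ i : T, e.1 i ≠ 0 → (i : k) ∈ S} \ {z})
        {e : {e : T →₀ ℕ // ∀ i, e i < p} | ∀ i : T, e.1 i ≠ 0 → (i : k) ∈ T \ (S : Set k)} := by
      rw [Set.disjoint_left]
      rintro e ⟨he, hez⟩ he'
      exact hez (Subtype.ext (Finsupp.ext fun i ↦ by_contra fun hi ↦ (he' i hi).2 (he i hi)))
    have hr0 : r = 0 :=
      (Submodule.disjoint_def.mp (LinearIndependent.disjoint_span_image (v := v) hT.1 hdis)) r hr h2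
    refine exists_pow_of_mem_pPow p k ?_
    rw [hxr, hr0, add_zero, Algebra.smul_def]
    simp [v, z, pMonomial]

end CplExcLib
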